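import Cfsg.Agent.OrthOdd.Small
import Cfsg.Agent.OrthMinus.Trace
import Cfsg.Agent.Classical.LinearBasic

/-!
The action of the linear group on an eigenspace of rank two.
-/

set_option autoImplicit false
set_option linter.unusedSectionVars false

namespace Cfsg.Agent.OrthOdd

open Matrix Module SLDeg OrthDeg SUDeg
open scoped commutatorElement
open OrthMinus (K0t O2t pair_K0t K0t_mem finrank_le_of_maps rep_injective exists_scalar_char eq_zero_of_psi)

variable {F : Type*} [Field F] [Fintype F] {m : ℕ}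

theorem zero_ne_one' : (0 : Fin (m + 3)) ≠ 1 := by simp

/-- The torus element of the first pair. -/
noncomputable def h01 (m : ℕ) (a : F) (ha : a ≠ 0) : SLn (m + 3) F :=
  Matrix.SpecialLinearGroup.diag2n (zero_ne_one' (m := m)) a ha

theorem h01_val (a : F) (ha : a ≠ 0) :
    (h01 m a ha).1 = diagonal fun k => if k = 0 then a else if k = 1 then a⁻¹ else 1 := rfl

theorem h01_inv (a : F) (ha : a ≠ 0) : (h01 m a ha)⁻¹ = h01 m a⁻¹ (inv_ne_zero ha) := by
  refine inv_eq_of_mul_eq_one_right (Subtype.ext ?_)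
  rw [Matrix.SpecialLinearGroup.coe_mul, h01_val, h01_val, diagonal_mul_diagonal, Matrix.SpecialLinearGroup.coe_one,
    ← diagonal_one]
  congr 1
  funext k
  split_ifs <;> simp [ha]

theorem h01_tr (a : F) (ha : a ≠ 0) (v : Fin (m + 3) → F) :
    ((h01 m a ha)⁻¹).1ᵀ *ᵥ v = fun k => (if k = 0 then a⁻¹ else if k = 1 then a else 1) * v k := by
  rw [h01_inv, h01_val, diagonal_transpose]
  funext k
  rw [mulVec_diagonal, inv_inv]

theorem h01_mulVec_e (a : F) (ha : a ≠ 0) (i : Fin (m + 3)) :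
    (h01 m a ha).1 *ᵥ e i = (if i = 0 then a else if i = 1 then a⁻¹ else 1) • (e i : Fin (m + 3) → F) := by
  rw [h01_val]
  funext k
  rw [mulVec_diagonal, Pi.smul_apply, smul_eq_mul]
  rcases eq_or_ne k i with rfl | hk
  · rw [e_self]
  · rw [e_ne hk, mul_zero, mul_zero]

theorem act_h01 (a : F) (ha : a ≠ 0) : act (h01 m a ha).1 (K0t m F) = K0t m F := by
  rw [K0t, act_wedge, h01_mulVec_e, h01_mulVec_e, if_pos rfl, if_neg (zero_ne_one' (m := m)).symm, if_pos rfl]
  refine Subtype.ext (Matrix.ext fun i j => ?_)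
  simp only [wedge_apply, Pi.smul_apply, smul_eq_mul]
  field_simp

theorem exists_scalar' (hq : 3 < Fintype.card F) : ∃ a : F, a ≠ 0 ∧ a * a ≠ 1 := by
  classical
  obtain ⟨a, ha⟩ : ∃ a : F, a ∉ ({0, 1, -1} : Finset F) := by
    by_contra hc
    push Not at hc
    have := (Finset.card_le_card (s := (Finset.univ : Finset F)) fun x _ => hc x).trans Finset.card_le_three
    rw [Finset.card_univ] at this
    omega
  simp only [Finset.mem_insert, Finset.mem_singleton, not_or] at ha
  exact ⟨a, ha.1, fun h => (mul_self_eq_one_iff.1 h).elim ha.2.1 ha.2.2⟩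

theorem tv_tr (t : Fin (m + 3) → F) (ht : t ⬝ᵥ e 0 = 0) (v : Fin (m + 3) → F) :
    ((tv (e 0) t ht)⁻¹).1ᵀ *ᵥ v = v - v 0 • t := by
  have hinv : (tv (e 0) t ht)⁻¹ = tv (e 0) (-t) (by rw [neg_dotProduct, ht, neg_zero]) :=
    inv_eq_of_mul_eq_one_right (by rw [tv_mul_right, tv_congr _ (by simp) rfl (add_neg_cancel t), tv_zero_right])
  rw [hinv]
  funext i
  simp [tv, Matrix.transpose_add, Matrix.transpose_vecMulVec, Matrix.add_mulVec, Matrix.vecMulVec_mulVec,
    Matrix.neg_mulVec, neg_vecMulVec, vecMulVec_neg, sub_eq_add_neg, mul_comm]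

theorem act_tv (t : Fin (m + 3) → F) (ht : t ⬝ᵥ e 0 = 0) : act (tv (e 0) t ht).1 (K0t m F) = K0t m F := by
  rw [K0t, act_wedge, ← smul_eq, ← smul_eq, tv_apply, tv_apply, ht, zero_smul, add_zero]
  refine Subtype.ext (Matrix.ext fun i j => ?_)
  simp only [wedge_apply, Pi.add_apply, Pi.smul_apply, smul_eq_mul]
  ring

variable {G : Type*} [Group G] (E : OFrame m F G) {ψ : AddChar F ℂ} {k : ℕ} (ρ : Representation ℂ G (Fin k → ℂ))

/-- A vector fixed by the shifts at the second index. -/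
structure BlockData (ψ : AddChar F ℂ) where
  v : Fin k → ℂ
  v_mem : v ∈ eigK E ψ ρ (K0t m F)
  v_ne : v ≠ 0
  v_fix : ∀ c, ρ (E.wv (Pi.single 1 c)) v = v
  line : ∀ w ∈ eigK E ψ ρ (K0t m F), (∀ c, ρ (E.wv (Pi.single 1 c)) w = w) → ∃ l : ℂ, w = l • v
  span : ⊤ ≤ Submodule.span ℂ (Set.range fun d : F =>
    (⟨ρ (E.wv (Pi.single 0 d)) v, wv_eigK E ψ ρ v_mem _⟩ : eigK E ψ ρ (K0t m F)))

theorem exists_block (hψ : ψ ≠ 1) (h2 : (2 : F) ≠ 0)
    (hdim : finrank ℂ (eigK E ψ ρ (K0t m F)) = Fintype.card F) : Nonempty (BlockData E ρ ψ) := by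
  classical
  set φ := phA E ψ ρ (sglHom 1) (K0t m F) hK0_comm with hφ
  have hone : ∀ χ : AddChar F ℂ, finrank ℂ (eig φ ⊤ χ) = 1 := fun χ => by
    have h := finrank_K0 E ρ hψ h2 χ
    rw [hdim, ← hφ] at h
    exact (Nat.eq_of_mul_eq_mul_left Fintype.card_pos ((mul_one _).trans h)).symm
  obtain ⟨v, hv, hv0⟩ := (Submodule.ne_bot_iff _).1 (fun h => by
    have := hone 1
    rw [h, finrank_bot] at this
    exact absurd this (by simp) : eig φ ⊤ (1 : AddChar F ℂ) ≠ ⊥)
  refine ⟨⟨v.1, v.2, fun h => hv0 (Subtype.ext h),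
    fun c => ((mem_eigA E ψ ρ).1 hv c).trans (by rw [AddChar.one_apply, one_smul]), fun w hw hwf => ?_, ?_⟩⟩
  · have hm : (⟨w, hw⟩ : eigK E ψ ρ (K0t m F)) ∈ eig φ ⊤ (1 : AddChar F ℂ) :=
      (mem_eigA E ψ ρ).2 fun c => (hwf c).trans (by rw [AddChar.one_apply, one_smul])
    obtain ⟨l, hl⟩ := (finrank_eq_one_iff_of_nonzero' (⟨v, hv⟩ : eig φ ⊤ (1 : AddChar F ℂ))
      (fun h => hv0 (congrArg Subtype.val h))).1 (hone 1) ⟨_, hm⟩
    exact ⟨l, (congrArg (fun z : eig φ ⊤ (1 : AddChar F ℂ) => (z.1.1 : Fin k → ℂ)) hl).symm⟩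
  · intro x _
    obtain ⟨_, hs⟩ := sum_proj (φ := φ) x
    rw [← hs]
    refine Submodule.sum_mem _ fun χ _ => ?_
    obtain ⟨d, hd⟩ := (etaS_bijective hψ h2).2 χ
    set vb : eigK E ψ ρ (K0t m F) := ⟨ρ (E.wv (Pi.single 0 d)) v.1, wv_eigK E ψ ρ v.2 _⟩
    have hmem : vb ∈ eig φ ⊤ χ := by
      have h := shift_mem E ψ ρ hv (w := Pi.single 0 d) (η := etaS ψ d) fun c => hK0_shift d c
      rwa [one_mul, hd] at h
    have hne : vb ≠ 0 := fun h0 => hv0 (Subtype.ext (rep_injective ρ (E.wv (Pi.single 0 d))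
      ((congrArg Subtype.val h0).trans (map_zero _).symm)))
    obtain ⟨c, hc⟩ := (finrank_eq_one_iff_of_nonzero' (⟨vb, hmem⟩ : eig φ ⊤ χ)
      (fun h => hne (congrArg Subtype.val h))).1 (hone χ)
      ⟨proj φ χ x, proj_mem (C := ⊤) (fun _ _ _ => Submodule.mem_top) χ Submodule.mem_top⟩
    have hc' : c • vb = proj φ χ x := congrArg Subtype.val hc
    rw [← hc']
    exact Submodule.smul_mem _ c (Submodule.subset_span ⟨d, rfl⟩)

variable {E ρ}

/-- An element fixing the matrix and scaling the second index fixes the line. -/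
theorem BlockData.line_of (D : BlockData E ρ ψ) {A : SLn (m + 3) F} (hA : act A.1 (K0t m F) = K0t m F)
    {c : F} (hc0 : c ≠ 0)
    (hc : ∀ z : F, (A⁻¹).1ᵀ *ᵥ (Pi.single 1 z : Fin (m + 3) → F) = Pi.single 1 (c * z)) :
    ∃ l : ℂ, ρ (E.L A) D.v = l • D.v := by
  refine D.line _ (by have h := move_eigK E ψ ρ (E.hL A) D.v_mem; rwa [hA] at h) fun z => ?_
  have h3 := E.hLw A (Pi.single 1 (z / c))
  rw [hc, mul_div_cancel₀ _ hc0] at h3
  rw [← Module.End.mul_apply, ← map_mul, ← h3, map_mul, Module.End.mul_apply, D.v_fix]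

/-- The transvections at the first index fix the vector. -/
theorem BlockData.tv_fix (D : BlockData E ρ ψ) (hq : 3 < Fintype.card F) (t : Fin (m + 3) → F) (ht : t ⬝ᵥ e 0 = 0) :
    ρ (E.L (tv (e 0) t ht)) D.v = D.v := by
  classical
  have hl : ∀ (t : Fin (m + 3) → F) (ht : t ⬝ᵥ e 0 = 0), ∃ l : ℂ, ρ (E.L (tv (e 0) t ht)) D.v = l • D.v :=
    fun t ht => D.line_of (act_tv t ht) one_ne_zero fun z => by
      rw [tv_tr, Pi.single_eq_of_ne zero_ne_one', zero_smul, sub_zero, one_mul]
  choose l hl using hl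
  obtain ⟨a, ha, ha2⟩ := exists_scalar' hq
  obtain ⟨μ, hμ⟩ := D.line_of (act_h01 a ha) ha fun z => by
    rw [h01_tr]
    funext i
    rcases eq_or_ne i 1 with rfl | hi
    · simp
    · simp [Pi.single_eq_of_ne hi]
  have hμ0 : μ ≠ 0 := fun h => D.v_ne (rep_injective ρ _ (hμ.trans (by rw [h, zero_smul, map_zero])))
  set δ : Fin (m + 3) → F := fun i => if i = 0 then 1 else if i = 1 then a * a else a with hδ
  have hconj : ∀ t t' ht ht', (∀ i, t' i = δ i * t i) → l t' ht' = l t ht := by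
    intro t t' ht ht' htt
    have ht0 : t 0 = 0 := by simpa using ht
    have e1 : h01 m a ha * tv (e 0) t ht = tv (e 0) t' ht' * h01 m a ha := by
      refine Subtype.ext (Matrix.ext fun i j => ?_)
      rw [Matrix.SpecialLinearGroup.coe_mul, Matrix.SpecialLinearGroup.coe_mul, h01_val, diagonal_mul, mul_diagonal]
      simp only [tv, Matrix.add_apply, vecMulVec_apply, htt]
      rcases eq_or_ne i 0 with rfl | hi0
      · rcases eq_or_ne j 0 with rfl | hj0
        · simp [δ, ht0]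
        · rcases eq_or_ne j 1 with rfl | hj1
          · simp [δ]; field_simp
          · simp [δ, hj0, hj1, Matrix.one_apply_ne hj0.symm]
      · rcases eq_or_ne i j with rfl | hij
        · simp [hi0]
        · simp [hi0, Matrix.one_apply_ne hij]
    have h3 : ρ (E.L (h01 m a ha)) (ρ (E.L (tv (e 0) t ht)) D.v) =
        ρ (E.L (tv (e 0) t' ht')) (ρ (E.L (h01 m a ha)) D.v) := by
      rw [← Module.End.mul_apply, ← map_mul, ← map_mul, e1, map_mul, map_mul, Module.End.mul_apply]
    rw [hl, map_smul, hμ, map_smul, hl, smul_smul, smul_smul] at h3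
    exact mul_left_cancel₀ hμ0 (by linear_combination -(smul_left_injective ℂ D.v_ne h3))
  have lmul : ∀ t t' ht ht' htt', l (t + t') htt' = l t ht * l t' ht' := by
    intro t t' ht ht' htt'
    have h3 : ρ (E.L (tv (e 0) t ht)) (ρ (E.L (tv (e 0) t' ht')) D.v) = l (t + t') htt' • D.v := by
      rw [← Module.End.mul_apply, ← map_mul, ← map_mul, tv_mul_right, hl]
    rw [hl, map_smul, hl, smul_smul, mul_comm] at h3
    exact (smul_left_injective ℂ D.v_ne h3).symm
  have ht0 : t 0 = 0 := by simpa using ht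
  have hδ1 : ∀ i, i ≠ 0 → δ i - 1 ≠ 0 := fun i hi => by
    simp only [δ, if_neg hi]
    split_ifs
    · exact sub_ne_zero.2 ha2
    · exact sub_ne_zero.2 fun h => ha2 (by rw [h, one_mul])
  set u : Fin (m + 3) → F := fun i => if i = 0 then 0 else t i / (δ i - 1) with hu
  have hu0 : u ⬝ᵥ e 0 = 0 := by simp [u]
  have hdu : (fun i => δ i * u i) ⬝ᵥ e 0 = 0 := by simp [u]
  have h1 := lmul t u ht hu0 (by rw [add_dotProduct, ht, hu0, add_zero])
  have e2 : t + u = fun i => δ i * u i := funext fun i => by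
    rcases eq_or_ne i 0 with rfl | hi
    · simp [u, ht0]
    · simp only [Pi.add_apply, u, if_neg hi]
      field_simp [hδ1 i hi]
      ring
  have h2 := hconj u _ hu0 hdu fun i => rfl
  have hlu : l u hu0 ≠ 0 := fun h => D.v_ne (rep_injective ρ _ ((hl u hu0).trans (by rw [h, zero_smul, map_zero])))
  have h4 : l t ht = 1 := mul_right_cancel₀ hlu (by
    rw [one_mul, ← h1, ← h2]
    congr 1)
  rw [hl, h4, one_smul]

/-- The torus has trace minus one on the block. -/
theorem BlockData.torus_trace (D : BlockData E ρ ψ) (hdim : finrank ℂ (eigK E ψ ρ (K0t m F)) = Fintype.card F)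
    (hq : 3 < Fintype.card F) (h2 : (2 : F) ≠ 0) (t : Fˣ) (hgen : ∀ x : Fˣ, x ∈ Subgroup.zpowers t) :
    LinearMap.trace ℂ (Fin k → ℂ) (ρ (E.L (h01 m (t : F) t.ne_zero)) * proj (phx E ρ) (lamT ψ (K0t m F))) = -1 := by
  classical
  set W := eigK E ψ ρ (K0t m F) with hW
  set h := h01 m (t : F) t.ne_zero
  let H : Subgroup (SLn (m + 3) F) :=
    { carrier := {A | act A.1 (K0t m F) = K0t m F}
      one_mem' := by
        show act (1 : SLn (m + 3) F).1 _ = _
        rw [Matrix.SpecialLinearGroup.coe_one, act_one]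
      mul_mem' := fun {A B} hA hB => by
        show act (A * B).1 _ = _
        rw [Matrix.SpecialLinearGroup.coe_mul, act_mul, hB, hA]
      inv_mem' := fun {A} hA => by
        show act (A⁻¹).1 _ = _
        conv_lhs => rw [← hA]
        rw [← act_mul, ← Matrix.SpecialLinearGroup.coe_mul, inv_mul_cancel, Matrix.SpecialLinearGroup.coe_one, act_one] }
  have hW' : ∀ A : H, ∀ w ∈ W, ρ (E.L A.1) w ∈ W := fun A w hw => by
    have h' := move_eigK E ψ ρ (E.hL A.1) hw
    rwa [show act A.1.1 (K0t m F) = K0t m F from A.2] at h'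
  let σ : H →* Module.End ℂ W :=
    { toFun := fun A => (ρ (E.L A.1)).restrict (hW' A)
      map_one' := by ext w; simp
      map_mul' := fun A B => by ext w; simp }
  let δ : H →* ℂ := LinearMap.det.comp σ
  have hcomm : ∀ A B : H, δ ⁅A, B⁆ = 1 := fun A B => by
    have h1 := Abelianization.commutator_subset_ker δ.toHomUnits (x := ⁅A, B⁆)
      (Subgroup.commutator_mem_commutator (Subgroup.mem_top _) (Subgroup.mem_top _))
    exact congrArg Units.val (MonoidHom.mem_ker.1 h1)
  have hdh : δ ⟨h, act_h01 _ _⟩ = 1 := by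
    obtain ⟨a, ha, ha2⟩ := exists_scalar' hq
    have hmem : ∀ (i j : Fin (m + 3)) (hij : i ≠ j), (i = 0 ∨ i = 1) → (j = 0 ∨ j = 1) → ∀ (c : F),
        ∀ A ∈ ({Matrix.SpecialLinearGroup.transvection hij c, Matrix.SpecialLinearGroup.diag2n hij a ha} :
          Set (SLn (m + 3) F)), A ∈ H := by
      intro i j hij hi hj c A hA
      show act A.1 (K0t m F) = K0t m F
      rw [K0t, act_wedge]
      refine Subtype.ext (Matrix.ext fun x y => ?_)
      rw [wedge_apply, wedge_apply]
      rcases hA with rfl | hA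
      · simp only [Matrix.SpecialLinearGroup.transvection_coe, Classical.tv_mulVec, Pi.add_apply]
        rcases hi with rfl | rfl <;> rcases hj with rfl | rfl
        · exact absurd rfl hij
        · simp [Pi.single_apply]; split_ifs <;> ring
        · simp [Pi.single_apply]; split_ifs <;> ring
        · exact absurd rfl hij
      · have hv : ∀ z, (Matrix.SpecialLinearGroup.diag2n hij a ha : SLn (m + 3) F).1 *ᵥ e z =
            (if z = i then a else if z = j then a⁻¹ else 1) • (e z : Fin (m + 3) → F) := fun z => by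
          rw [Classical.diag2n_mulVec]
          funext w
          rw [Pi.smul_apply, smul_eq_mul]
          rcases eq_or_ne w z with rfl | hw
          · rfl
          · rw [e_ne hw, mul_zero, mul_zero]
        rw [Set.mem_singleton_iff.1 hA, hv, hv]
        simp only [Pi.smul_apply, smul_eq_mul]
        rcases hi with rfl | rfl <;> rcases hj with rfl | rfl
        · exact absurd rfl hij
        · simp [zero_ne_one'.symm]; field_simp
        · simp [zero_ne_one'.symm]; field_simp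
        · exact absurd rfl hij
    have hT : ∀ (i j : Fin (m + 3)) (hij : i ≠ j) (hi : i = 0 ∨ i = 1) (hj : j = 0 ∨ j = 1) (c : F),
        ∀ hA : Matrix.SpecialLinearGroup.transvection hij c ∈ H, δ ⟨_, hA⟩ = 1 := by
      intro i j hij hi hj c hA
      have hd := hmem i j hij hi hj (c / (a ^ 2 - 1)) _ (Or.inr rfl)
      have ht := hmem i j hij hi hj (c / (a ^ 2 - 1)) _ (Or.inl rfl)
      have e1 : (⟨_, hA⟩ : H) = ⁅(⟨_, hd⟩ : H), ⟨_, ht⟩⁆ := by
        refine Subtype.ext ?_
        show _ = ⁅(Matrix.SpecialLinearGroup.diag2n hij a ha : SLn (m + 3) F), _⁆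
        rw [Classical.comm_diag2n_tv]
        congr 1
        have : a ^ 2 - 1 ≠ 0 := sub_ne_zero.2 (by rwa [_root_.sq])
        field_simp
      rw [e1, hcomm]
    have hT1 : ∀ c : F, Matrix.SpecialLinearGroup.transvection (zero_ne_one' (m := m)) c ∈ H :=
      fun c => hmem _ _ _ (Or.inl rfl) (Or.inr rfl) c _ (Or.inl rfl)
    have hT2 : ∀ c : F, Matrix.SpecialLinearGroup.transvection (zero_ne_one' (m := m)).symm c ∈ H :=
      fun c => hmem _ _ _ (Or.inr rfl) (Or.inl rfl) c _ (Or.inl rfl)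
    have e2 : (⟨h, act_h01 _ _⟩ : H) = ⟨_, hT1 (t : F)⟩ * ⟨_, hT2 (-(t : F)⁻¹)⟩ * ⟨_, hT1 (t : F)⟩ * ⟨_, hT1 (-1)⟩ *
        ⟨_, hT2 1⟩ * ⟨_, hT1 (-1)⟩ := Subtype.ext (Classical.diag2n_decompose (zero_ne_one' (m := m)) (t : F) t.ne_zero)
    rw [e2]
    simp only [map_mul]
    rw [hT _ _ _ (Or.inl rfl) (Or.inr rfl), hT _ _ _ (Or.inr rfl) (Or.inl rfl), hT _ _ _ (Or.inl rfl) (Or.inr rfl),
      hT _ _ _ (Or.inr rfl) (Or.inl rfl)]
    simp
  -- the matrix in the basis of shifts
  have hne : (t : F) ≠ 0 := t.ne_zero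
  have hh : ∀ z : F, (h⁻¹).1ᵀ *ᵥ (Pi.single 1 z : Fin (m + 3) → F) = Pi.single 1 ((t : F) * z) := fun z => by
    rw [h01_tr]
    funext i
    rcases eq_or_ne i 1 with rfl | hi
    · simp
    · simp [Pi.single_eq_of_ne hi]
  obtain ⟨l, hl⟩ := D.line_of (act_h01 (t : F) hne) hne hh
  let vb : F → W := fun d => ⟨ρ (E.wv (Pi.single 0 d)) D.v, wv_eigK E ψ ρ D.v_mem _⟩
  let bb : Basis F ℂ W := basisOfTopLeSpanOfCardEqFinrank vb D.span hdim.symm
  have hbb : ∀ d, bb d = vb d := fun d => by simp [bb]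
  let P : Equiv.Perm F := Equiv.mulLeft₀ (t : F)⁻¹ (inv_ne_zero hne)
  set T := σ ⟨h, act_h01 _ _⟩
  have hTb : ∀ d, T (bb d) = l • bb (P d) := fun d => by
    rw [hbb, hbb]
    refine Subtype.ext ?_
    show ρ (E.L h) (ρ (E.wv (Pi.single 0 d)) D.v) = l • ρ (E.wv (Pi.single 0 ((t : F)⁻¹ * d))) D.v
    have e3 : (h⁻¹).1ᵀ *ᵥ (Pi.single 0 d : Fin (m + 3) → F) = Pi.single 0 ((t : F)⁻¹ * d) := by
      rw [h01_tr]
      funext i
      rcases eq_or_ne i 0 with rfl | hi
      · simp
      · simp [Pi.single_eq_of_ne hi]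
    rw [← Module.End.mul_apply, ← map_mul, E.hLw, e3, map_mul, Module.End.mul_apply, hl, map_smul]
  have hmat : LinearMap.toMatrix bb bb T = l • (Equiv.Perm.permMatrix ℂ P.symm) := by
    ext i j
    rw [LinearMap.toMatrix_apply, hTb, map_smul, Basis.repr_self, Matrix.smul_apply]
    simp [Finsupp.single_apply, PEquiv.toMatrix_apply, Equiv.symm_apply_eq, eq_comm]
    split_ifs <;> simp_all
  have hfin : ∀ d, P d ≠ d ↔ d ≠ 0 := fun d => by
    constructor
    · rintro h0 rfl
      exact h0 (mul_zero _)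
    · intro hd h0
      have h1 : (t : F)⁻¹ = 1 := mul_right_cancel₀ hd (h0.trans (one_mul d).symm)
      have ht1 : t = 1 := Units.ext (inv_eq_one.1 h1)
      obtain ⟨a, ha, ha2⟩ := exists_scalar' hq
      obtain ⟨i, hi⟩ := hgen (Units.mk0 a ha)
      simp only [ht1, _root_.one_zpow] at hi
      exact ha2 (by rw [show a = 1 by simpa using (congrArg Units.val hi).symm, one_mul])
  have hsign : Equiv.Perm.sign P = -1 := by
    have hcyc : P.IsCycle := by
      refine ⟨1, (hfin 1).2 one_ne_zero, fun y hy => ?_⟩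
      obtain ⟨i, hi⟩ := hgen (Units.mk0 y ((hfin y).1 hy))
      refine ⟨-i, ?_⟩
      have hpow : ∀ (i : ℤ) (x : F), (P ^ i) x = (((t : Fˣ) ^ (-i) : Fˣ) : F) * x := by
        intro i
        induction i using Int.induction_on with
        | zero => intro x; simp
        | succ i ih =>
          intro x
          rw [_root_.zpow_add_one, Equiv.Perm.mul_apply, ih]
          show _ * ((t : F)⁻¹ * x) = _
          rw [neg_add, _root_.zpow_add, _root_.zpow_neg_one, Units.val_mul, Units.val_inv_eq_inv_val, mul_assoc]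
        | pred i ih =>
          intro x
          rw [_root_.zpow_sub_one, Equiv.Perm.mul_apply, ih]
          show _ * ((t : F)⁻¹⁻¹ * x) = _
          rw [inv_inv, neg_sub, sub_neg_eq_add, _root_.zpow_add, _root_.zpow_natCast, _root_.zpow_one, Units.val_mul, neg_neg,
            zpow_natCast]
          ring
      rw [hpow, neg_neg, mul_one, show t ^ i = Units.mk0 y _ from hi, Units.val_mk0]
    rw [hcyc.sign]
    have hc : P.support = Finset.univ.erase 0 := Finset.ext fun d => by simp [hfin]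
    rw [hc, Finset.card_erase_of_mem (Finset.mem_univ _), Finset.card_univ]
    obtain ⟨j, hj⟩ : Odd (Fintype.card F) := by
      refine Nat.odd_iff.2 (FiniteField.odd_card_of_char_ne_two fun hc => h2 ?_)
      haveI : CharP F 2 := hc ▸ ringChar.charP F
      exact CharTwo.two_eq_zero
    rw [hj, Nat.add_sub_cancel, pow_mul]
    simp
  have hlq : l ^ (Fintype.card F - 1) = 1 := by
    have hn : ∀ j : ℕ, ρ (E.L (h ^ j)) D.v = l ^ j • D.v := fun j => by
      induction j with
      | zero => simp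
      | succ j ih => rw [pow_succ, map_mul, map_mul, Module.End.mul_apply, hl, map_smul, ih, smul_smul, ← pow_succ']
    have h1 : h ^ (Fintype.card F - 1) = 1 := by
      refine Subtype.ext ?_
      rw [Matrix.SpecialLinearGroup.coe_pow, h01_val, diagonal_pow, Matrix.SpecialLinearGroup.coe_one, ← diagonal_one]
      congr 1
      funext i
      rw [Pi.pow_apply]
      split_ifs
      · exact FiniteField.pow_card_sub_one_eq_one _ hne
      · exact FiniteField.pow_card_sub_one_eq_one _ (inv_ne_zero hne)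
      · exact one_pow _
    have h3 := hn (Fintype.card F - 1)
    rw [h1, map_one, map_one, Module.End.one_apply] at h3
    exact smul_left_injective ℂ D.v_ne (h3.symm.trans (one_smul ℂ D.v).symm)
  have hl1 : l = -1 := by
    have h3 : δ ⟨h, act_h01 _ _⟩ = LinearMap.det T := rfl
    rw [hdh, ← LinearMap.det_toMatrix bb, hmat, det_smul, det_permutation, Equiv.Perm.sign_symm, hsign,
      show Fintype.card F = Fintype.card F - 1 + 1 by have := Fintype.card_pos (α := F); omega, pow_succ, hlq,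
      one_mul] at h3
    push_cast at h3
    linear_combination h3
  -- the trace
  have hmem : ∀ x, (ρ (E.L h) * proj (phx E ρ) (lamT ψ (K0t m F))) x ∈ W := fun x =>
    hW' ⟨h, act_h01 _ _⟩ _ (OrthMinus.proj_top_mem (phx E ρ) _ x)
  rw [← LinearMap.trace_restrict_eq_of_forall_mem W _ hmem,
    show (ρ (E.L h) * proj (phx E ρ) (lamT ψ (K0t m F))).restrict (fun x _ => hmem x) = T from
      LinearMap.ext fun w => Subtype.ext (congrArg (ρ (E.L h)) ((proj_of_mem w.2).trans (if_pos rfl))),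
    LinearMap.trace_eq_matrix_trace ℂ bb, hmat, Matrix.trace_smul, hl1]
  have htr : Matrix.trace (Equiv.Perm.permMatrix ℂ P.symm) = 1 := by
    rw [Matrix.trace, Finset.sum_eq_single (0 : F)]
    · simp [PEquiv.toMatrix_apply, Equiv.symm_apply_eq, P]
    · intro d _ hd
      have := (hfin d).2 hd
      simp [PEquiv.toMatrix_apply, Equiv.symm_apply_eq, this.symm]
    · simp
  rw [htr]; simp

/-- The linear group moves the fixed space of the centre. -/
theorem moves (D : BlockData E ρ ψ) (hψ : ψ ≠ 1) (hq : 3 < Fintype.card F) :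
    ∃ g, ∃ v ∈ eigK E ψ ρ 0, ρ (E.L g) v ≠ v := by
  classical
  by_contra hcon
  push Not at hcon
  have hle : eigK E ψ ρ 0 ⊔ Submodule.span ℂ {D.v} ≤ (eigK E ψ ρ 0).comap (ρ E.s⁻¹) := by
    have key : ∀ w, (∀ t ht, ρ (E.L (tv (e 0) t ht)) w = w) →
        (∀ C : AltM (m + 3) F, C.1 0 1 = 0 → ρ (E.x C) w = w) → ρ E.s⁻¹ w ∈ eigK E ψ ρ 0 := by
      intro w h1 h2
      refine (mem_eigK E ψ ρ).2 fun B => ?_
      obtain ⟨C, t, ht, hC, hB⟩ := E.s_rel B
      have e1 : E.x B * E.s⁻¹ = E.s⁻¹ * (E.x C * E.L (tv (e 0) t ht)) := by rw [← hB]; group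
      rw [← Module.End.mul_apply, ← map_mul, e1, map_mul, map_mul, Module.End.mul_apply, Module.End.mul_apply, h1,
        h2 C hC, pair_zero_left, AddChar.map_zero_eq_one, one_smul]
    refine sup_le (fun w hw => key w (fun t ht => hcon _ w hw) fun C _ => ?_)
      (Submodule.span_le.2 (Set.singleton_subset_iff.2 (key D.v (fun t ht => D.tv_fix hq t ht) fun C hC => ?_)))
    · rw [(mem_eigK E ψ ρ).1 hw, pair_zero_left, AddChar.map_zero_eq_one, one_smul]
    · rw [(mem_eigK E ψ ρ).1 D.v_mem, pair_K0t, hC, AddChar.map_zero_eq_one, one_smul]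
  have hdis : eigK E ψ ρ 0 ⊓ Submodule.span ℂ {D.v} = ⊥ := by
    refine (Submodule.eq_bot_iff _).2 fun w hw => ?_
    obtain ⟨c, rfl⟩ := Submodule.mem_span_singleton.1 hw.2
    by_contra hc
    have hc0 : c ≠ 0 := fun h => hc (by rw [h, zero_smul])
    refine hψ (DFunLike.ext _ _ fun s => ?_)
    have e1 := (mem_eigK E ψ ρ).1 hw.1 (wedge (s • e 0) (e 1))
    rw [pair_zero_left, AddChar.map_zero_eq_one, one_smul, map_smul, (mem_eigK E ψ ρ).1 D.v_mem, pair_K0t,
      smul_comm, wedge_apply] at e1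
    have e2 : ψ s • (c • D.v) = (1 : ℂ) • (c • D.v) := by
      rw [one_smul]
      simpa using e1
    exact smul_left_injective ℂ (smul_ne_zero hc0 D.v_ne) e2
  have h3 := Submodule.finrank_sup_add_finrank_inf_eq (eigK E ψ ρ 0) (Submodule.span ℂ {D.v})
  rw [hdis, finrank_bot, add_zero, finrank_span_singleton D.v_ne] at h3
  have h4 := (Submodule.finrank_mono hle)
  have h5 : finrank ℂ ((eigK E ψ ρ 0).comap (ρ E.s⁻¹)) ≤ finrank ℂ (eigK E ψ ρ 0) :=
    finrank_le_of_maps (ρ E.s⁻¹) (rep_injective ρ _) fun w hw => hw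
  omega

end Cfsg.Agent.OrthOdd
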