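import Cfsg.Agent.OrthMinus.AltTwo
import Cfsg.Agent.Classical.QuadStd

/-!
The data of the stabiliser of a maximal totally singular subspace in odd dimension.
-/

set_option autoImplicit false
set_option linter.unusedSectionVars false

namespace Cfsg.Agent.OrthOdd

open Matrix Module SLDeg OrthDeg
open OrthMinus (K0t O2t pair_K0t K0t_mem)

variable {F : Type*} [Field F] {r : ℕ}

/-- The central correction of a product. -/
def Dm (u v : Fin r → F) : AltM r F :=
  ⟨(Matrix.of fun i j => v i * u j) - (Matrix.of fun i j => v i * u j)ᵀ,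
    by rw [transpose_sub, transpose_transpose, neg_sub], fun i => by simp⟩

theorem Dm_apply (u v : Fin r → F) (i j : Fin r) : (Dm u v).1 i j = v i * u j - v j * u i := rfl

theorem pair_Dm (K : AltM r F) (u v : Fin r → F) :
    pair K (Dm u v) = ∑ i, ∑ j, v i * u j * K.1 i j := by
  rw [pair_comm, pair_eq (M := Matrix.of fun i j => v i * u j) (K := Dm u v) rfl, ← sum_eq_trace]
  rfl

/-- A diagonal torus element of determinant one. -/
def dsl (d : Fin r → F) (hd : ∏ i, d i = 1) : SLn r F :=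
  ⟨diagonal d, by rw [det_diagonal, hd]⟩

/-- The data of the stabiliser of a maximal totally singular subspace. -/
structure OFrame (m : ℕ) (F : Type*) [Field F] (G : Type*) [Group G] where
  x : AddChar (AltM (m + 3) F) G
  wv : (Fin (m + 3) → F) → G
  wv_mul : ∀ u v, wv u * wv v = wv (u + v) * x (Dm u v)
  wv_x : ∀ u B, wv u * x B = x B * wv u
  L : SLn (m + 3) F →* G
  hL : ∀ A B, L A * x (act A.1ᵀ B) = x B * L A
  hLw : ∀ A u, L A * wv u = wv ((A⁻¹).1ᵀ *ᵥ u) * L A
  s : G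
  s_x : ∀ B : AltM (m + 3) F, (∀ j, B.1 0 j = 0) → s * x B = x B * s
  s_rel : ∀ B, ∃ (C : AltM (m + 3) F) (t : Fin (m + 3) → F) (ht : t ⬝ᵥ e 0 = 0),
    C.1 0 1 = 0 ∧ s * x B * s⁻¹ = x C * L (tv (e 0) t ht)
  s_dia : ∀ (d : Fin (m + 3) → F) (hd : ∏ i, d i = 1),
    (∀ B, s * L (dsl d hd) * s⁻¹ * x (act (diagonal (Function.update d 0 (d 0)⁻¹))ᵀ B) =
      x B * (s * L (dsl d hd) * s⁻¹)) ∧
    ∀ A A' : SLn (m + 3) F, diagonal (Function.update d 0 (d 0)⁻¹) * A.1 =
      A'.1 * diagonal (Function.update d 0 (d 0)⁻¹) → s * L (dsl d hd) * s⁻¹ * L A = L A' * (s * L (dsl d hd) * s⁻¹)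

end Cfsg.Agent.OrthOdd
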