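import Cfsg.Agent.SLDeg.Main

/-!
Representations of a special linear group of the smallest degree: the heart of the permutation module on points.
-/

set_option autoImplicit false
set_option linter.unusedSectionVars false

namespace Cfsg.Agent.OrthOdd

open Matrix Module SLDeg SUDeg
open scoped InnerProductSpace

variable {m : ℕ} {F : Type*} [Field F] [Fintype F]

/-- The points. -/
abbrev Pt (m : ℕ) (F : Type*) [Field F] := Projectivization F (Fin (m + 3) → F)

noncomputable instance fintype_pt : Fintype (Pt m F) := by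
  haveI : Finite (Pt m F) := Quotient.finite _
  exact Fintype.ofFinite _

/-- The data of a representation of the smallest degree. -/
structure Heart {W : Type*} [AddCommGroup W] [Module ℂ W] (π : Representation ℂ (SLn (m + 3) F) W) where
  za : (Fin (m + 3) → F) → W
  za_act : ∀ (g : SLn (m + 3) F) (a : Fin (m + 3) → F), a ≠ 0 → π g (za a) = za (g • a)
  za_smul : ∀ (c : F) (a : Fin (m + 3) → F), c ≠ 0 → a ≠ 0 → za (c • a) = za a
  rel : ∀ c : Pt m F → ℂ, ∑ p, c p • za p.rep = 0 → ∀ p p', c p = c p'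
  card : Fintype.card (Pt m F) = finrank ℂ W + 1
  sum_zero : ∑ p : Pt m F, za p.rep = 0

theorem exists_sl_move {a : Fin (m + 3) → F} (ha : a ≠ 0) :
    ∃ g : SLn (m + 3) F, g • (e 0 : Fin (m + 3) → F) = a := by
  obtain ⟨w, hw⟩ := exists_third a a
  rw [Set.pair_eq_singleton] at hw
  obtain ⟨g, g0, -⟩ := exists_move2 (li_pair ha hw)
  exact ⟨g, g0⟩

theorem smul_ne (g : SLn (m + 3) F) {a : Fin (m + 3) → F} (ha : a ≠ 0) : g • a ≠ 0 := fun h =>
  ha (sl_injective g (h.trans (sl_smul_zero g).symm))

theorem card_pt : (Fintype.card F ^ (m + 3) - Fintype.card F) / (Fintype.card F - 1) + 1 = Fintype.card (Pt m F) := by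
  have h2 := Projectivization.card' F (Fin (m + 3) → F)
  rw [Nat.card_fun, Nat.card_eq_fintype_card (α := Fin (m + 3)), Fintype.card_fin,
    Nat.card_eq_fintype_card (α := Pt m F), Nat.card_eq_fintype_card (α := F)] at h2
  exact points_eq (Fintype.card F) (m + 3) _ Fintype.one_lt_card (by omega) h2

/-- A representation of the smallest degree has the data. -/
theorem exists_heart [DecidableEq F] {W : Type*} [AddCommGroup W] [Module ℂ W] [FiniteDimensional ℂ W]
    (π : Representation ℂ (SLn (m + 3) F) W) (hq3 : 4 < Fintype.card F) (hne : ∃ g w, π g w ≠ w)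
    (hle : finrank ℂ W ≤ (Fintype.card F ^ (m + 3) - Fintype.card F) / (Fintype.card F - 1)) :
    Nonempty (Heart π) := by
  classical
  have h3 : m = 0 → Fintype.card F ≠ 2 ∧ Fintype.card F ≠ 4 := fun _ => by omega
  have h4 : m = 1 → 3 < Fintype.card F := fun _ => by omega
  set d := finrank ℂ W
  let b := Module.finBasis ℂ W
  let E := EuclideanSpace ℂ (SLn (m + 3) F × Fin d)
  let R : Representation ℂ (SLn (m + 3) F) E :=
    { toFun := fun g =>
        { toFun := fun x => (EuclideanSpace.equiv _ ℂ).symm fun p => x (p.1 * g, p.2)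
          map_add' := fun x y => rfl
          map_smul' := fun c x => rfl }
      map_one' := LinearMap.ext fun x => by
        ext p
        simp
      map_mul' := fun g g' => LinearMap.ext fun x => by
        ext p
        simp [mul_assoc] }
  let T : W →ₗ[ℂ] E :=
    { toFun := fun v => (EuclideanSpace.equiv _ ℂ).symm fun p => b.repr (π p.1 v) p.2
      map_add' := fun v w => by ext p; simp; rfl
      map_smul' := fun c v => by ext p; simp; rfl }
  have hT : ∀ g v, R g (T v) = T (π g v) := fun g v => by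
    ext p
    simp [R, T, map_mul]
  have hTinj : Function.Injective T := fun v w h => b.ext_elem fun i => by
    have h1 := congrArg (fun x : E => x (1, i)) h
    simpa [T] using h1
  have hU : IsUni R := fun g x y => by
    rw [PiLp.inner_apply, PiLp.inner_apply]
    exact Fintype.sum_equiv ((Equiv.mulRight g).prodCongr (Equiv.refl (Fin d))) _
      (fun p => ⟪x p, y p⟫_ℂ) fun p => rfl
  set C := LinearMap.range T
  have hI : Inv R C := by
    rintro g _ ⟨v, rfl⟩
    exact ⟨π g v, (hT g v).symm⟩
  have hCd : finrank ℂ C = d := LinearMap.finrank_range_of_inj hTinj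
  -- the fixed vectors
  let Fx : Submodule ℂ E :=
    { carrier := {x | x ∈ C ∧ ∀ g, R g x = x}
      zero_mem' := ⟨C.zero_mem, fun g => map_zero _⟩
      add_mem' := fun {x y} hx hy => ⟨C.add_mem hx.1 hy.1, fun g => by rw [map_add, hx.2, hy.2]⟩
      smul_mem' := fun c x hx => ⟨C.smul_mem c hx.1, fun g => by rw [map_smul, hx.2]⟩ }
  have hperp : Inv R (C ⊓ Fxᗮ) := fun g v hv => ⟨hI g v hv.1, (Submodule.mem_orthogonal _ _).2 fun u hu => by
    rw [← hu.2 g, hU]; exact (Submodule.mem_orthogonal _ _).1 hv.2 u hu⟩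
  have hne' : C ⊓ Fxᗮ ≠ ⊥ := by
    intro h0
    obtain ⟨g, w, hw⟩ := hne
    refine hw (hTinj ?_)
    rw [← hT]
    obtain ⟨y, hy, z, hz, hyz⟩ := Fx.exists_add_mem_mem_orthogonal (T w)
    have hz0 : z = 0 := by
      have hzC : z ∈ C := by
        have : z = T w - y := by rw [hyz, add_sub_cancel_left]
        rw [this]
        exact C.sub_mem ⟨w, rfl⟩ hy.1
      have : z ∈ C ⊓ Fxᗮ := ⟨hzC, hz⟩
      rwa [h0, Submodule.mem_bot] at this
    rw [hyz, hz0, add_zero, hy.2]
  have hfixP : ∀ x ∈ C ⊓ Fxᗮ, (∀ g, R g x = x) → x = 0 := fun x hx hfix => by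
    have := (Submodule.mem_orthogonal _ _).1 hx.2 x ⟨hx.1, hfix⟩
    exact inner_self_eq_zero.1 this
  have hbig := target_le_finrank hU hperp hfixP hne' h3 h4
  have hCeq : C ⊓ Fxᗮ = C := Submodule.eq_of_le_of_finrank_le inf_le_left (by rw [hCd]; exact hle.trans hbig)
  rw [hCeq] at hfixP hbig
  rw [hCd] at hbig
  have hdτ := le_antisymm hle hbig
  have hC0 : C ≠ ⊥ := hCeq ▸ hne'
  obtain ⟨ψ, hψ⟩ := exists_addChar_ne_one (F := F)
  have hq : 2 ≤ Fintype.card F := Fintype.one_lt_card
  have hline : ∀ f φ : Fin (m + 3) → F, LinearIndependent F ![f, φ] → finrank ℂ (colEig R ψ C f φ) ≤ 1 := by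
    intro f φ hli
    by_contra h1
    have h2 := mult_mul_le hψ hI (π := R) hli
    rw [Nat.card_eq_fintype_card, hCd] at h2
    have h5 : (Fintype.card F ^ (m + 3) - Fintype.card F) / (Fintype.card F - 1)
        ≤ 2 * (Fintype.card F ^ (m + 2) - 1) := target_le (Fintype.card F) (m + 2) hq
    have h6 := Nat.mul_le_mul_left (Fintype.card F ^ (m + 2) - 1) (Nat.lt_of_not_le h1)
    have h7 : 1 < Fintype.card F ^ (m + 2) := Nat.one_lt_pow (by omega) hq
    by_cases heq : (Fintype.card F ^ (m + 3) - Fintype.card F) / (Fintype.card F - 1) =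
        2 * (Fintype.card F ^ (m + 2) - 1)
    · have h8 : Fintype.card F ^ (m + 3) - Fintype.card F = Fintype.card F * (Fintype.card F ^ (m + 2) - 1) := by
        rw [Nat.mul_sub, mul_one, ← pow_succ']
      have h9 := Nat.div_mul_le_self (Fintype.card F ^ (m + 3) - Fintype.card F) (Fintype.card F - 1)
      rw [heq, h8, mul_right_comm] at h9
      have h10 : 2 * (Fintype.card F - 1) ≤ Fintype.card F := Nat.le_of_mul_le_mul_right h9 (by omega)
      omega
    · omega
  obtain ⟨z', hz'C, hz'0, hz'⟩ := struct m R ψ C hU hI hψ (good_of_line hI h3 h4 hline) hfixP hC0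
  set z := (‖z'‖⁻¹ : ℂ) • z' with hz
  have hzC : z ∈ C := C.smul_mem _ hz'C
  have hzn : ‖z‖ = 1 := by
    rw [hz, norm_smul, norm_inv, Complex.norm_real, norm_norm, inv_mul_cancel₀ (norm_ne_zero_iff.2 hz'0)]
  have hzfix : ∀ g : SLn (m + 3) F, g • (e 0 : Fin (m + 3) → F) = e 0 → R g z = z := fun g hg => by
    rw [hz, map_smul, hz' g hg]
  let za : (Fin (m + 3) → F) → E := fun a => if ha : a ≠ 0 then R (exists_sl_move ha).choose z else 0
  have hza : ∀ g : SLn (m + 3) F, za (g • e 0) = R g z := by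
    intro g
    have ha : g • (e 0 : Fin (m + 3) → F) ≠ 0 := smul_ne g (by simp)
    simp only [za, dif_pos ha]
    set g' := (exists_sl_move ha).choose
    have hg' : g' • (e 0 : Fin (m + 3) → F) = g • e 0 := (exists_sl_move ha).choose_spec
    conv_lhs => rw [show g' = g * (g⁻¹ * g') by rw [mul_inv_cancel_left]]
    rw [rho_mul, hzfix (g⁻¹ * g') (by rw [mul_smul, hg', inv_smul_smul])]
  have hzaC : ∀ a, za a ∈ C := fun a => by
    simp only [za]
    split_ifs
    · exact hI _ z hzC
    · exact C.zero_mem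
  have hnorm : ∀ a, a ≠ 0 → ⟪za a, za a⟫_ℂ = 1 := fun a ha => by
    obtain ⟨g, hg⟩ := exists_sl_move ha
    rw [← hg, hza, hU, inner_self_eq_norm_sq_to_K, hzn]
    simp
  set κ := ⟪z, za (e 1)⟫_ℂ with hκdef
  have hpair : ∀ a b : Fin (m + 3) → F, LinearIndependent F ![a, b] → ⟪za a, za b⟫_ℂ = κ := by
    intro a b hab
    obtain ⟨g, g0, g1⟩ := exists_move2 hab
    obtain ⟨k, hk⟩ := exists_sl_move (a := (e 1 : Fin (m + 3) → F)) fun h0 => by simpa using congrFun h0 1
    rw [← g0, ← g1, hza, ← hk, ← mul_smul, hza, rho_mul, hU, hκdef, ← hk, hza]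
  have hκ : κ ≠ 1 := by
    intro hκ
    refine (by rw [hzn]; exact one_ne_zero : ‖z‖ ≠ 0) ?_
    rw [norm_eq_zero]
    refine hfixP z hzC fun g => ?_
    have heq : ∀ a b : Fin (m + 3) → F, LinearIndependent F ![a, b] → za a = za b := by
      intro a b hab
      have ha := (li_pair_iff.1 hab).1
      have hb := hab.ne_zero 1
      have h1 := hpair a b hab
      rw [hκ] at h1
      have hn : ∀ a, a ≠ 0 → ‖za a‖ = 1 := fun a ha => by
        obtain ⟨g, hg⟩ := exists_sl_move ha
        rw [← hg, hza, norm_rho hU, hzn]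
      exact (inner_eq_one_iff_of_norm_eq_one (hn a ha) (hn b hb)).1 h1
    have he0 : (e 0 : Fin (m + 3) → F) ≠ 0 := fun h0 => by simpa using congrFun h0 0
    have hg0 : g • (e 0 : Fin (m + 3) → F) ≠ 0 := smul_ne g he0
    obtain ⟨c, hc⟩ := exists_third (g • (e 0 : Fin (m + 3) → F)) (e 0)
    have h1 := heq (g • e 0) c (li_pair hg0 fun hm => hc (Submodule.span_mono (by simp) hm))
    have h2 := heq (e 0) c (li_pair he0 fun hm => hc (Submodule.span_mono (by simp) hm))
    rw [← h2, hza] at h1
    rw [h1]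
    simpa using hza 1
  have hP := card_pt (m := m) (F := F)
  rw [← hdτ] at hP
  have hli : ∀ p p' : Pt m F, p ≠ p' → LinearIndependent F ![p.rep, p'.rep] := fun p p' hpp =>
    li_pair p.rep_nonzero fun hm => hpp (by
      obtain ⟨c, hc'⟩ := Submodule.mem_span_singleton.1 hm
      have hc0 : c ≠ 0 := fun h0 => p'.rep_nonzero (by rw [← hc', h0, zero_smul])
      rw [← Projectivization.mk_rep p, ← Projectivization.mk_rep p', Projectivization.mk_eq_mk_iff']
      exact ⟨c⁻¹, by rw [← hc', inv_smul_smul₀ hc0]⟩)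
  have hdot : ∀ (c : Pt m F → ℂ) (p : Pt m F),
      ⟪za p.rep, ∑ p', c p' • za p'.rep⟫_ℂ = c p * (1 - κ) + κ * ∑ p', c p' := by
    intro c p
    rw [inner_sum, ← Finset.add_sum_erase _ _ (Finset.mem_univ p), inner_smul_right, hnorm _ p.rep_nonzero,
      Finset.sum_congr rfl (g := fun j => c j * κ) fun j hj => by
        rw [inner_smul_right, hpair _ _ (hli p j (Finset.ne_of_mem_erase hj).symm)],
      ← Finset.sum_mul, ← Finset.add_sum_erase (f := c) _ (Finset.mem_univ p)]
    ring
  have hrel : ∀ c : Pt m F → ℂ, ∑ p, c p • za p.rep = 0 → ∀ p p', c p = c p' := fun c hc p p' => by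
    have h1 := hdot c p
    have h2 := hdot c p'
    rw [hc, inner_zero_right] at h1 h2
    exact mul_right_cancel₀ (sub_ne_zero.2 (Ne.symm hκ)) (by linear_combination h2 - h1)
  -- there is a relation
  obtain ⟨c₀, hc₀, p₀, hp₀⟩ : ∃ c : Pt m F → ℂ, ∑ p, c p • za p.rep = 0 ∧ ∃ p, c p ≠ 0 := by
    have hdep : ¬ LinearIndependent ℂ fun p : Pt m F => (⟨za p.rep, hzaC _⟩ : C) := fun h => by
      have := h.fintype_card_le_finrank
      omega
    obtain ⟨c, hc, hp⟩ := Fintype.not_linearIndependent_iff.1 hdep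
    refine ⟨c, ?_, hp⟩
    have := congrArg Subtype.val hc
    simpa using this
  have hsum : ∑ p : Pt m F, za p.rep = 0 := by
    rw [Finset.sum_congr rfl fun p _ => show c₀ p • za p.rep = c₀ p₀ • za p.rep by rw [hrel c₀ hc₀ p p₀],
      ← Finset.smul_sum] at hc₀
    exact (smul_eq_zero.1 hc₀).resolve_left hp₀
  have hκ0 : κ ≠ 0 := fun h => by
    have h1 := hdot (fun _ => 1) p₀
    rw [Finset.sum_congr rfl fun p _ => one_smul ℂ (za p.rep), hsum, inner_zero_right, h] at h1
    norm_num at h1
  -- scalars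
  have hsc : ∀ (c : F) (a : Fin (m + 3) → F), c ≠ 0 → a ≠ 0 → za (c • a) = za a := by
    intro c a hc ha
    set pa : Pt m F := Projectivization.mk F a ha with hpa
    have hperp' : ∀ p : Pt m F, p ≠ pa → ⟪za p.rep, za (c • a) - za a⟫_ℂ = 0 := by
      intro p hp
      have h1 : ∀ l : F, l ≠ 0 → LinearIndependent F ![p.rep, l • a] := fun l hl =>
        li_pair p.rep_nonzero fun hm => hp (by
          obtain ⟨j, hj⟩ := Submodule.mem_span_singleton.1 hm
          have hj0 : j ≠ 0 := fun h0 => smul_ne_zero hl ha (by rw [← hj, h0, zero_smul])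
          rw [← Projectivization.mk_rep p, hpa, Projectivization.mk_eq_mk_iff']
          exact ⟨j⁻¹ * l, by rw [mul_smul, ← hj, inv_smul_smul₀ hj0]⟩)
      rw [inner_sub_right, hpair _ _ (h1 c hc), ← one_smul F a, hpair _ _ (h1 1 one_ne_zero), sub_self]
    have hind : LinearIndependent ℂ fun p : {p : Pt m F // p ≠ pa} => (⟨za p.1.rep, hzaC _⟩ : C) := by
      rw [Fintype.linearIndependent_iff]
      intro g hg i
      let g' : Pt m F → ℂ := fun p => if h : p ≠ pa then g ⟨p, h⟩ else 0
      have hg' : ∑ p, g' p • za p.rep = 0 := by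
        rw [← Finset.sum_erase Finset.univ (a := pa) (f := fun p => g' p • za p.rep) (by simp [g'])]
        have h2 := congrArg Subtype.val hg
        simp only [Submodule.coe_sum, Submodule.coe_smul, Submodule.coe_zero] at h2
        rw [← h2]
        exact (Finset.sum_subtype (Finset.univ.erase pa) (p := fun p => p ≠ pa) (F := inferInstance)
          (fun p => by simp) _).trans (Finset.sum_congr rfl fun p _ => by simp [g', p.2])
      have h1 := hrel g' hg' i.1 pa
      simpa [g', i.2] using h1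
    have hcard : Fintype.card {p : Pt m F // p ≠ pa} = finrank ℂ C := by
      rw [Fintype.card_subtype_compl, Fintype.card_subtype_eq, hCd]
      omega
    haveI : Nonempty {p : Pt m F // p ≠ pa} := by
      rw [← Fintype.card_pos_iff, hcard]
      exact Nat.pos_of_ne_zero fun h => hC0 (Submodule.finrank_eq_zero.1 h)
    have hspan := hind.span_eq_top_of_card_eq_finrank hcard
    have hzero : ∀ x : C, ⟪(x : E), za (c • a) - za a⟫_ℂ = 0 := by
      intro x
      have hx : x ∈ Submodule.span ℂ (Set.range fun p : {p : Pt m F // p ≠ pa} => (⟨za p.1.rep, hzaC _⟩ : C)) := by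
        rw [hspan]; trivial
      induction hx using Submodule.span_induction with
      | mem y hy => obtain ⟨p, rfl⟩ := hy; exact hperp' p.1 p.2
      | zero => exact inner_zero_left _
      | add y y' _ _ hy hy' => rw [Submodule.coe_add, inner_add_left, hy, hy', add_zero]
      | smul r y _ hy => rw [Submodule.coe_smul, inner_smul_left, hy, mul_zero]
    exact sub_eq_zero.1 (inner_self_eq_zero.1 (hzero ⟨_, C.sub_mem (hzaC _) (hzaC _)⟩))
  -- back to the representation
  choose zw hzw using fun a => hzaC a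
  refine ⟨⟨zw, fun g a ha => hTinj ?_, fun c a hc ha => hTinj (by rw [hzw, hzw, hsc c a hc ha]), fun c hc => hrel c ?_,
    hP.symm, hTinj ?_⟩⟩
  · obtain ⟨h, hh⟩ := exists_sl_move ha
    rw [← hT, hzw, hzw, ← hh, ← mul_smul, hza, hza, rho_mul]
  · have h1 := congrArg T hc
    simpa [map_sum, hzw] using h1
  · simpa [map_sum, hzw] using hsum

variable {W : Type*} [AddCommGroup W] [Module ℂ W] [FiniteDimensional ℂ W] {π : Representation ℂ (SLn (m + 3) F) W}

/-- The action of an invertible matrix on points. -/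
noncomputable def ptMap (M : GL (Fin (m + 3)) F) : Equiv.Perm (Pt m F) :=
  Equiv.ofBijective (Projectivization.map (M.1.mulVecLin) (Matrix.mulVec_injective_iff_isUnit.2 M.isUnit))
    ((Finite.injective_iff_bijective).1 (Projectivization.map_injective _ _))

theorem ptMap_mk (M : GL (Fin (m + 3)) F) (v : Fin (m + 3) → F) (hv : v ≠ 0) :
    ptMap M (Projectivization.mk F v hv) = Projectivization.mk F (M.1 *ᵥ v) (fun h =>
      hv (Matrix.mulVec_injective_iff_isUnit.2 M.isUnit (h.trans (mulVec_zero _).symm))) :=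
  Projectivization.map_mk (M.1.mulVecLin) (Matrix.mulVec_injective_iff_isUnit.2 M.isUnit) v hv

theorem Heart.za_mk (H : Heart π) {a : Fin (m + 3) → F} (ha : a ≠ 0) :
    H.za (Projectivization.mk F a ha).rep = H.za a := by
  obtain ⟨u, hu⟩ := Projectivization.exists_smul_eq_mk_rep F a ha
  rw [← hu, Units.smul_def, H.za_smul _ _ u.ne_zero ha]

/-- An operator normalising the action is monomial, and its trace is a multiple of the number of fixed points less
one. -/
theorem Heart.trace_eq (H : Heart π) (T : Module.End ℂ W) (M : GL (Fin (m + 3)) F)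
    (hT : ∀ A A' : SLn (m + 3) F, M.1 * A.1 = A'.1 * M.1 → π A' * T = T * π A) :
    ∃ μ : ℂ, (∀ a : Fin (m + 3) → F, a ≠ 0 → T (H.za a) = μ • H.za (M.1 *ᵥ a)) ∧
      LinearMap.trace ℂ W T = μ * ((Nat.card {p : Pt m F // ptMap M p = p} : ℂ) - 1) := by
  classical
  have hMne : ∀ a : Fin (m + 3) → F, a ≠ 0 → M.1 *ᵥ a ≠ 0 := fun a ha h =>
    ha (Matrix.mulVec_injective_iff_isUnit.2 M.isUnit (h.trans (mulVec_zero _).symm))
  let conj : SLn (m + 3) F → SLn (m + 3) F := fun A => ⟨(M * Matrix.SpecialLinearGroup.toGL A * M⁻¹).1, by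
    rw [Units.val_mul, Units.val_mul, det_mul, det_mul, mul_right_comm, ← det_mul, ← Units.val_mul, mul_inv_cancel,
      Units.val_one, det_one, one_mul]
    exact A.2⟩
  have hconj : ∀ A, M.1 * A.1 = (conj A).1 * M.1 := fun A => by
    show _ = (M * Matrix.SpecialLinearGroup.toGL A * M⁻¹).1 * M.1
    rw [← Units.val_mul, inv_mul_cancel_right]
    rfl
  have hmv : ∀ A (a : Fin (m + 3) → F), conj A • (M.1 *ᵥ a) = M.1 *ᵥ (A • a) := fun A a => by
    rw [smul_eq, smul_eq, mulVec_mulVec, mulVec_mulVec, hconj]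
  set w₀ := M.1 *ᵥ (e 0 : Fin (m + 3) → F)
  have hw₀ : w₀ ≠ 0 := hMne _ (by simp)
  set v := T (H.za (e 0))
  have hvfix : ∀ A' : SLn (m + 3) F, A' • w₀ = w₀ → π A' v = v := by
    intro A' hA'
    let A : SLn (m + 3) F := ⟨(M⁻¹ * Matrix.SpecialLinearGroup.toGL A' * M).1, by
      rw [Units.val_mul, Units.val_mul, det_mul, det_mul, mul_right_comm, ← det_mul, ← Units.val_mul, inv_mul_cancel,
        Units.val_one, det_one, one_mul]
      exact A'.2⟩
    have hA : M.1 * A.1 = A'.1 * M.1 := by
      show M.1 * (M⁻¹ * Matrix.SpecialLinearGroup.toGL A' * M).1 = _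
      rw [← Units.val_mul, mul_assoc (M⁻¹), mul_inv_cancel_left]
      rfl
    have hAe : A • (e 0 : Fin (m + 3) → F) = e 0 := by
      refine Matrix.mulVec_injective_iff_isUnit.2 M.isUnit ?_
      show M.1 *ᵥ (A • e 0) = w₀
      rw [smul_eq, mulVec_mulVec, hA, ← mulVec_mulVec]
      exact hA'
    have h1 := LinearMap.congr_fun (hT A A' hA) (H.za (e 0))
    rw [Module.End.mul_apply, Module.End.mul_apply, H.za_act A _ (by simp), hAe] at h1
    exact h1
  -- fixed vectors of a stabiliser
  obtain ⟨μ, hμ⟩ : ∃ μ : ℂ, v = μ • H.za w₀ := by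
    let Φ : (Pt m F → ℂ) →ₗ[ℂ] W × ℂ :=
      (Fintype.linearCombination ℂ fun p : Pt m F => H.za p.rep).prod
        (Fintype.linearCombination ℂ fun _ => (1 : ℂ))
    have hinj : Function.Injective Φ := (injective_iff_map_eq_zero Φ).2 fun c hc => funext fun p => by
      obtain ⟨h1, h2⟩ := Prod.ext_iff.1 hc
      simp [Φ, Fintype.linearCombination_apply] at h1 h2
      have h3 := H.rel c h1
      rw [Finset.sum_congr rfl fun j _ => h3 j p, Finset.sum_const, Finset.card_univ, nsmul_eq_mul] at h2
      exact (mul_eq_zero.1 h2).resolve_left (Nat.cast_ne_zero.2 (by rw [H.card]; omega))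
    have hsurj : Function.Surjective Φ :=
      (LinearMap.injective_iff_surjective_of_finrank_eq_finrank (by simp [H.card])).1 hinj
    obtain ⟨c, hc⟩ := hsurj (v, 0)
    have hcv : ∑ p, c p • H.za p.rep = v := by
      have := congrArg Prod.fst hc
      simpa [Φ, Fintype.linearCombination_apply] using this
    set p₀ : Pt m F := Projectivization.mk F w₀ hw₀ with hp₀
    have hmove : ∀ p p' : Pt m F, p ≠ p₀ → p' ≠ p₀ → c p = c p' := by
      intro p p' hp hp'
      have hli : ∀ p : Pt m F, p ≠ p₀ → LinearIndependent F ![w₀, p.rep] := fun p hp =>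
        li_pair hw₀ fun hm => hp (by
          obtain ⟨j, hj⟩ := Submodule.mem_span_singleton.1 hm
          rw [← Projectivization.mk_rep p, hp₀, Projectivization.mk_eq_mk_iff']
          exact ⟨j, hj⟩)
      obtain ⟨g₁, a₁, b₁⟩ := exists_move2 (hli p hp)
      obtain ⟨g₂, a₂, b₂⟩ := exists_move2 (hli p' hp')
      set g := g₂ * g₁⁻¹
      have hgw : g • w₀ = w₀ := by rw [mul_smul, ← a₁, inv_smul_smul, a₂, ← a₁]
      have hgp : g • p.rep = p'.rep := by rw [mul_smul, ← b₁, inv_smul_smul, b₂]
      let σ : Equiv.Perm (Pt m F) := ptMap (Matrix.SpecialLinearGroup.toGL g)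
      have hσ : ∀ q, H.za (σ q).rep = π g (H.za q.rep) := fun q => by
        rw [H.za_act g _ q.rep_nonzero]
        have e : σ q = Projectivization.mk F (g • q.rep) (smul_ne g q.rep_nonzero) := by
          conv_lhs => rw [← Projectivization.mk_rep q]
          exact ptMap_mk _ _ _
        rw [e, H.za_mk]
      have h1 : ∑ q, (c (σ.symm q) - c q) • H.za q.rep = 0 := by
        simp only [sub_smul]
        rw [Finset.sum_sub_distrib, sub_eq_zero, ← Equiv.sum_comp σ fun q => c (σ.symm q) • H.za q.rep]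
        simp only [Equiv.symm_apply_apply, hσ]
        rw [hcv, Finset.sum_congr rfl fun q _ => (map_smul (π g) (c q) (H.za q.rep)).symm, ← map_sum, hcv]
        exact hvfix g hgw
      have e₀ : σ.symm p₀ = p₀ := by
        rw [Equiv.symm_apply_eq]
        show p₀ = ptMap _ (Projectivization.mk F w₀ hw₀)
        rw [ptMap_mk, hp₀, Projectivization.mk_eq_mk_iff']
        exact ⟨1, by rw [one_smul]; exact hgw⟩
      have e₁ : σ.symm p' = p := by
        rw [Equiv.symm_apply_eq, ← Projectivization.mk_rep p']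
        conv_rhs => rw [← Projectivization.mk_rep p]
        show _ = ptMap _ (Projectivization.mk F p.rep _)
        rw [ptMap_mk, Projectivization.mk_eq_mk_iff']
        exact ⟨1, by rw [one_smul]; exact hgp⟩
      have h2 := H.rel _ h1 p' p₀
      rw [e₀, e₁, sub_self, sub_eq_zero] at h2
      exact h2
    obtain ⟨p₁, hp₁⟩ : ∃ p₁ : Pt m F, p₁ ≠ p₀ := by
      haveI : Nontrivial (Pt m F) := Fintype.one_lt_card_iff_nontrivial.1 (by
        have := card_pt (m := m) (F := F)
        have h' : Fintype.card F ^ 2 ≤ Fintype.card F ^ (m + 3) :=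
          Nat.pow_le_pow_right Fintype.card_pos (by omega)
        have h'' : Fintype.card F - 1 ≤ Fintype.card F ^ (m + 3) - Fintype.card F := by
          have h2 := Fintype.one_lt_card (α := F)
          have : 2 * Fintype.card F ≤ Fintype.card F ^ 2 := by rw [_root_.sq]; exact Nat.mul_le_mul_right _ h2
          omega
        have := Nat.div_pos h'' (by have := Fintype.one_lt_card (α := F); omega)
        omega)
      exact exists_ne p₀
    refine ⟨c p₀ - c p₁, ?_⟩
    rw [← hcv, ← H.za_mk hw₀, ← hp₀]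
    have : ∀ q : Pt m F, c q • H.za q.rep =
        (if q = p₀ then (c p₀ - c p₁) • H.za q.rep else 0) + c p₁ • H.za q.rep := fun q => by
      rcases eq_or_ne q p₀ with rfl | hq
      · rw [if_pos rfl, sub_smul, sub_add_cancel]
      · rw [if_neg hq, zero_add, hmove q p₁ hq hp₁]
    rw [Finset.sum_congr rfl fun q _ => this q, Finset.sum_add_distrib, ← Finset.smul_sum, H.sum_zero, smul_zero,
      add_zero, Finset.sum_ite_eq', if_pos (Finset.mem_univ _)]
  have hall : ∀ a : Fin (m + 3) → F, a ≠ 0 → T (H.za a) = μ • H.za (M.1 *ᵥ a) := by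
    intro a ha
    obtain ⟨g, rfl⟩ := exists_sl_move ha
    have h1 := LinearMap.congr_fun (hT g (conj g) (hconj g)) (H.za (e 0))
    rw [Module.End.mul_apply, Module.End.mul_apply, H.za_act g _ (by simp), show T (H.za (e 0)) = μ • H.za w₀ from hμ,
      map_smul, H.za_act _ _ hw₀, hmv] at h1
    exact h1.symm
  refine ⟨μ, hall, ?_⟩
  set σ := ptMap M
  have hσ : ∀ q : Pt m F, T (H.za q.rep) = μ • H.za (σ q).rep := fun q => by
    rw [hall _ q.rep_nonzero]
    congr 1
    have e : σ q = Projectivization.mk F (M.1 *ᵥ q.rep) (hMne _ q.rep_nonzero) := by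
      conv_lhs => rw [← Projectivization.mk_rep q]
      exact ptMap_mk _ _ _
    rw [e, H.za_mk]
  let Φ : (Pt m F → ℂ) →ₗ[ℂ] W × ℂ :=
    (Fintype.linearCombination ℂ fun p : Pt m F => H.za p.rep).prod
      (Fintype.linearCombination ℂ fun _ => (1 : ℂ))
  have hinj : Function.Injective Φ := (injective_iff_map_eq_zero Φ).2 fun c hc => funext fun p => by
    obtain ⟨h1, h2⟩ := Prod.ext_iff.1 hc
    simp [Φ, Fintype.linearCombination_apply] at h1 h2
    have h3 := H.rel c h1
    rw [Finset.sum_congr rfl fun j _ => h3 j p, Finset.sum_const, Finset.card_univ, nsmul_eq_mul] at h2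
    exact (mul_eq_zero.1 h2).resolve_left (Nat.cast_ne_zero.2 (by rw [H.card]; omega))
  let e := LinearEquiv.ofBijective Φ ⟨hinj,
    (LinearMap.injective_iff_surjective_of_finrank_eq_finrank (by simp [H.card])).1 hinj⟩
  let R : Module.End ℂ (Pt m F → ℂ) := μ • LinearMap.funLeft ℂ ℂ σ.symm
  have hR : e.conj R = LinearMap.prodMap T (μ • LinearMap.id) := by
    refine LinearMap.ext fun y => ?_
    obtain ⟨c, rfl⟩ := e.surjective y
    rw [LinearEquiv.conj_apply_apply, LinearEquiv.symm_apply_apply]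
    refine Prod.ext ?_ ?_
    · show Fintype.linearCombination ℂ _ (μ • fun q => c (σ.symm q)) = T (Fintype.linearCombination ℂ _ c)
      rw [Fintype.linearCombination_apply, Fintype.linearCombination_apply, map_sum,
        ← Equiv.sum_comp σ fun q => (μ • fun q => c (σ.symm q)) q • H.za q.rep]
      refine Finset.sum_congr rfl fun q _ => ?_
      rw [map_smul, hσ, Pi.smul_apply, Equiv.symm_apply_apply, smul_eq_mul, smul_smul, mul_comm]
    · show (Φ (R c)).2 = μ • (Φ c).2
      simp [R, Φ, Fintype.linearCombination_apply, Finset.mul_sum]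
      exact Equiv.sum_comp σ.symm fun q => μ * c q
  have h1 := LinearMap.trace_conj' R e
  rw [hR, LinearMap.trace_prodMap', map_smul, LinearMap.trace_id, Module.finrank_self] at h1
  have h2 : LinearMap.trace ℂ _ R = μ * ((Finset.univ.filter fun p : Pt m F => σ p = p).card : ℂ) := by
    rw [map_smul, smul_eq_mul]
    congr 1
    rw [LinearMap.trace_eq_matrix_trace ℂ (Pi.basisFun ℂ (Pt m F)), Matrix.trace, Finset.card_filter, Nat.cast_sum]
    refine Finset.sum_congr rfl fun q _ => ?_
    rw [Matrix.diag_apply, LinearMap.toMatrix_apply, Pi.basisFun_apply, Pi.basisFun_repr, LinearMap.funLeft_apply,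
      Pi.single_apply, Equiv.symm_apply_eq]
    rcases eq_or_ne (σ q) q with h | h
    · rw [if_pos h.symm, if_pos h, Nat.cast_one]
    · rw [if_neg h.symm, if_neg h, Nat.cast_zero]
  rw [h2, show (Finset.univ.filter fun p : Pt m F => σ p = p).card = Nat.card {p : Pt m F // σ p = p} by
    rw [Nat.card_eq_fintype_card, Fintype.card_subtype]] at h1
  simp at h1
  rw [← Nat.card_eq_fintype_card] at h1
  linear_combination h1

end Cfsg.Agent.OrthOdd
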