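import Cfsg.Agent.OrthOdd.Frame
import Cfsg.Agent.OrthMinus.Heis

/-!
Representations of the stabiliser of a maximal totally singular subspace in odd dimension: the eigenspaces of the centre
of the unipotent radical.
-/

set_option autoImplicit false
set_option linter.unusedSectionVars false

namespace Cfsg.Agent.OrthOdd

open Matrix Module SLDeg OrthDeg SUDeg
open OrthMinus (K0t O2t pair_K0t K0t_mem finrank_le_of_maps rep_injective sum_finrank_eig)

variable {F : Type*} [Field F] [Fintype F] {m : ℕ} {G : Type*} [Group G]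
variable (E : OFrame m F G) (ψ : AddChar F ℂ) {k : ℕ} (ρ : Representation ℂ G (Fin k → ℂ))

noncomputable instance fintype_altM {n : ℕ} : Fintype (AltM n F) := Fintype.ofFinite _

/-- The action of the centre. -/
def phx : AddChar (AltM (m + 3) F) (Module.End ℂ (Fin k → ℂ)) := MonoidHom.compAddChar ρ E.x

/-- The character of a matrix. -/
def lamT (K : AltM (m + 3) F) : AddChar (AltM (m + 3) F) ℂ where
  toFun B := ψ (pair K B)
  map_zero_eq_one' := by
    have : pair K 0 = 0 := by simp [pair]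
    rw [this, AddChar.map_zero_eq_one]
  map_add_eq_mul' B C := by rw [pair_add, AddChar.map_add_eq_mul]

/-- The eigenspace of a matrix. -/
noncomputable def eigK (K : AltM (m + 3) F) : Submodule ℂ (Fin k → ℂ) := eig (phx E ρ) ⊤ (lamT ψ K)

theorem mem_eigK {K : AltM (m + 3) F} {v : Fin k → ℂ} :
    v ∈ eigK E ψ ρ K ↔ ∀ B, ρ (E.x B) v = ψ (pair K B) • v :=
  ⟨fun h => (mem_eig.1 h).2, fun h => mem_eig.2 ⟨Submodule.mem_top, h⟩⟩

theorem pair_zero_left (B : AltM (m + 3) F) : pair (0 : AltM (m + 3) F) B = 0 := by simp [pair]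

theorem pair_zero_right (K : AltM (m + 3) F) : pair K (0 : AltM (m + 3) F) = 0 := by simp [pair]

theorem move_eigK {A : Matrix (Fin (m + 3)) (Fin (m + 3)) F} {g : G}
    (hg : ∀ B, g * E.x (act Aᵀ B) = E.x B * g) {K : AltM (m + 3) F} {v : Fin k → ℂ} (hv : v ∈ eigK E ψ ρ K) :
    ρ g v ∈ eigK E ψ ρ (act A K) := by
  refine (mem_eigK E ψ ρ).2 fun B => ?_
  rw [← Module.End.mul_apply, ← map_mul, ← hg, map_mul, Module.End.mul_apply, (mem_eigK E ψ ρ).1 hv, map_smul,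
    pair_act]

theorem wv_eigK {K : AltM (m + 3) F} {v : Fin k → ℂ} (hv : v ∈ eigK E ψ ρ K) (u : Fin (m + 3) → F) :
    ρ (E.wv u) v ∈ eigK E ψ ρ K := by
  refine (mem_eigK E ψ ρ).2 fun B => ?_
  rw [← Module.End.mul_apply, ← map_mul, ← E.wv_x, map_mul, Module.End.mul_apply, (mem_eigK E ψ ρ).1 hv, map_smul]

theorem finrank_act (A : SLn (m + 3) F) (K : AltM (m + 3) F) :
    finrank ℂ (eigK E ψ ρ (act A.1 K)) = finrank ℂ (eigK E ψ ρ K) := by
  refine le_antisymm ?_ ?_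
  · refine finrank_le_of_maps (ρ (E.L A⁻¹)) (rep_injective ρ _) fun v hv => ?_
    have h := move_eigK E ψ ρ (E.hL A⁻¹) hv
    rwa [← act_mul, ← Matrix.SpecialLinearGroup.coe_mul, inv_mul_cancel, Matrix.SpecialLinearGroup.coe_one, act_one] at h
  · exact finrank_le_of_maps (ρ (E.L A)) (rep_injective ρ _) fun v hv => move_eigK E ψ ρ (E.hL A) hv

theorem wv_prod {K : AltM (m + 3) F} {v : Fin k → ℂ} (hv : v ∈ eigK E ψ ρ K) (u w : Fin (m + 3) → F) :
    ρ (E.wv u) (ρ (E.wv w) v) = ψ (pair K (Dm u w)) • ρ (E.wv (u + w)) v := by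
  rw [← Module.End.mul_apply, ← map_mul, E.wv_mul, map_mul, Module.End.mul_apply, (mem_eigK E ψ ρ).1 hv, map_smul]

theorem wv_zero : E.wv 0 = 1 := by
  have h := E.wv_mul 0 0
  have hd : Dm (0 : Fin (m + 3) → F) 0 = 0 :=
    Subtype.ext (Matrix.ext fun i j => by simp [Dm_apply])
  rwa [add_zero, hd, AddChar.map_zero_eq_one, mul_one, mul_eq_left] at h

theorem wv_comm {K : AltM (m + 3) F} {v : Fin k → ℂ} (hv : v ∈ eigK E ψ ρ K) (u w : Fin (m + 3) → F) :
    ρ (E.wv u) (ρ (E.wv w) v) =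
      ψ (pair K (Dm u w) - pair K (Dm w u)) • ρ (E.wv w) (ρ (E.wv u) v) := by
  rw [wv_prod E ψ ρ hv, wv_prod E ψ ρ hv, smul_smul, ← AddChar.map_add_eq_mul, sub_add_cancel, add_comm w u]

/-! ### An abelian subgroup on an eigenspace -/

section abelian

variable {A : Type*} [AddCommGroup A] [Finite A] (ι : A →+ Fin (m + 3) → F)

/-- The action of an abelian subgroup on an eigenspace. -/
noncomputable def phA (K : AltM (m + 3) F) (hι : ∀ c c', pair K (Dm (ι c) (ι c')) = 0) :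
    AddChar A (Module.End ℂ (eigK E ψ ρ K)) where
  toFun c := (ρ (E.wv (ι c))).restrict fun v hv => wv_eigK E ψ ρ hv _
  map_zero_eq_one' := by
    ext v : 2
    show ρ (E.wv (ι 0)) v.1 = v.1
    rw [map_zero, wv_zero, map_one, Module.End.one_apply]
  map_add_eq_mul' c c' := by
    ext v : 2
    show ρ (E.wv (ι (c + c'))) v.1 = ρ (E.wv (ι c)) (ρ (E.wv (ι c')) v.1)
    rw [wv_prod E ψ ρ v.2, hι, AddChar.map_zero_eq_one, one_smul, map_add]

variable {ι} {K : AltM (m + 3) F} {hι : ∀ c c', pair K (Dm (ι c) (ι c')) = 0}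

theorem mem_eigA {χ : AddChar A ℂ} {v : eigK E ψ ρ K} :
    v ∈ eig (phA E ψ ρ ι K hι) ⊤ χ ↔ ∀ c, ρ (E.wv (ι c)) v.1 = χ c • v.1 :=
  ⟨fun h c => congrArg Subtype.val ((mem_eig.1 h).2 c),
    fun h => mem_eig.2 ⟨Submodule.mem_top, fun c => Subtype.ext (h c)⟩⟩

theorem shift_mem {χ η : AddChar A ℂ} {v : eigK E ψ ρ K} (hv : v ∈ eig (phA E ψ ρ ι K hι) ⊤ χ)
    {w : Fin (m + 3) → F}
    (hw : ∀ c, ψ (pair K (Dm (ι c) w) - pair K (Dm w (ι c))) = η c) :
    (⟨ρ (E.wv w) v.1, wv_eigK E ψ ρ v.2 w⟩ : eigK E ψ ρ K) ∈ eig (phA E ψ ρ ι K hι) ⊤ (χ * η) := by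
  refine (mem_eigA E ψ ρ).2 fun c => ?_
  show ρ (E.wv (ι c)) (ρ (E.wv w) v.1) = _
  rw [wv_comm E ψ ρ v.2, (mem_eigA E ψ ρ).1 hv c, map_smul, smul_smul, hw, AddChar.mul_apply, mul_comm]

theorem finrank_shift (χ η : AddChar A ℂ) (w : Fin (m + 3) → F)
    (hw : ∀ c, ψ (pair K (Dm (ι c) w) - pair K (Dm w (ι c))) = η c) :
    finrank ℂ (eig (phA E ψ ρ ι K hι) ⊤ χ) ≤ finrank ℂ (eig (phA E ψ ρ ι K hι) ⊤ (χ * η)) :=
  finrank_le_of_maps ((ρ (E.wv w)).restrict (p := eigK E ψ ρ K) (q := eigK E ψ ρ K) fun v hv => wv_eigK E ψ ρ hv w)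
    (fun v v' h => Subtype.ext (rep_injective ρ _ (congrArg Subtype.val h))) fun _ hv => shift_mem E ψ ρ hv hw

theorem exists_eigA (h0 : eigK E ψ ρ K ≠ ⊥) : ∃ χ, eig (phA E ψ ρ ι K hι) ⊤ χ ≠ ⊥ := by
  obtain ⟨v, hv, hv0⟩ := (Submodule.ne_bot_iff _).1 h0
  obtain ⟨χ, u, hu, hu0⟩ := exists_eig (φ := phA E ψ ρ ι K hι) (C := ⊤) (fun _ _ _ => Submodule.mem_top)
    (v := ⟨v, hv⟩) Submodule.mem_top fun h => hv0 (congrArg Subtype.val h)
  exact ⟨χ, (Submodule.ne_bot_iff _).2 ⟨u, hu, hu0⟩⟩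

/-- Distinct shifts give independent vectors. -/
theorem card_shifts_le (hι : ∀ c c', pair K (Dm (ι c) (ι c')) = 0) (h0 : eigK E ψ ρ K ≠ ⊥) {S : Type*}
    [Fintype S] (τ : S → Fin (m + 3) → F) (η : S → AddChar A ℂ) (hη : Function.Injective η)
    (hτ : ∀ s c, ψ (pair K (Dm (ι c) (τ s)) - pair K (Dm (τ s) (ι c))) = η s c) :
    Fintype.card S ≤ finrank ℂ (eigK E ψ ρ K) := by
  classical
  obtain ⟨χ, hχ⟩ := exists_eigA (hι := hι) E ψ ρ h0
  have hinj : Function.Injective fun s => χ * η s := fun s s' h => hη (mul_left_cancel h)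
  have h := sum_finrank_le (φ := phA E ψ ρ ι K hι) (C := ⊤) (Finset.univ.image fun s => χ * η s)
  rw [Finset.sum_image hinj.injOn, finrank_top] at h
  refine le_trans ?_ h
  rw [← Finset.card_univ, Finset.card_eq_sum_ones]
  exact Finset.sum_le_sum fun s _ => (Submodule.one_le_finrank_iff.2 hχ).trans (finrank_shift E ψ ρ χ (η s) (τ s) (hτ s))

/-- All eigenspaces have equal dimensions if all characters are shifts. -/
theorem finrank_uniform (hι : ∀ c c', pair K (Dm (ι c) (ι c')) = 0) {S : Type*} (τ : S → Fin (m + 3) → F)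
    (η : S → AddChar A ℂ) (hη : Function.Surjective η)
    (hτ : ∀ s c, ψ (pair K (Dm (ι c) (τ s)) - pair K (Dm (τ s) (ι c))) = η s c) (χ : AddChar A ℂ) :
    finrank ℂ (eigK E ψ ρ K) = Nat.card A * finrank ℂ (eig (phA E ψ ρ ι K hι) ⊤ χ) := by
  classical
  let _ := Fintype.ofFinite A
  rw [← sum_finrank_eig (phA E ψ ρ ι K hι), Finset.sum_congr rfl fun χ' _ => (?_ :
    finrank ℂ (eig (phA E ψ ρ ι K hι) ⊤ χ') = finrank ℂ (eig (phA E ψ ρ ι K hι) ⊤ χ))]
  · rw [Finset.sum_const, Finset.card_univ, smul_eq_mul, AddChar.card_eq, Nat.card_eq_fintype_card]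
  have key : ∀ χ₁ χ₂ : AddChar A ℂ, finrank ℂ (eig (phA E ψ ρ ι K hι) ⊤ χ₁)
      ≤ finrank ℂ (eig (phA E ψ ρ ι K hι) ⊤ χ₂) := fun χ₁ χ₂ => by
    obtain ⟨s, hs⟩ := hη (χ₁⁻¹ * χ₂)
    have h := finrank_shift (hι := hι) E ψ ρ χ₁ (η s) (τ s) (hτ s)
    rwa [hs, mul_inv_cancel_left] at h
  exact le_antisymm (key _ _) (key _ _)

end abelian

/-! ### Characters of the line -/

/-- The embedding at one index. -/
def sglHom (i : Fin (m + 3)) : F →+ Fin (m + 3) → F :=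
  AddMonoidHom.single (fun _ : Fin (m + 3) => F) i

/-- The character of a scalar. -/
def etaS (d : F) : AddChar F ℂ where
  toFun c := ψ (2 * (d * c))
  map_zero_eq_one' := by simp
  map_add_eq_mul' c c' := by rw [mul_add, mul_add, AddChar.map_add_eq_mul]

variable {ψ}

theorem etaS_bijective (hψ : ψ ≠ 1) (h2 : (2 : F) ≠ 0) : Function.Bijective (etaS ψ) := by
  classical
  refine (Fintype.bijective_iff_injective_and_card _).2 ⟨fun d d' h => ?_, AddChar.card_eq.symm⟩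
  refine sub_eq_zero.1 (OrthMinus.eq_zero_of_psi hψ fun t => ?_)
  have h' : ψ (2 * (d * (t / 2))) = ψ (2 * (d' * (t / 2))) := DFunLike.congr_fun h (t / 2)
  have e : ∀ x : F, 2 * (x * (t / 2)) = t * x := fun x => by field_simp
  rw [e, e] at h'
  rw [mul_sub, sub_eq_add_neg, AddChar.map_add_eq_mul, h', ← AddChar.map_add_eq_mul, add_neg_cancel,
    AddChar.map_zero_eq_one]

theorem pair_K0_Dm (u v : Fin (m + 3) → F) : pair (K0t m F) (Dm u v) = v 0 * u 1 - v 1 * u 0 := by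
  rw [pair_K0t, Dm_apply]

theorem hK0_comm (c c' : F) : pair (K0t m F) (Dm (sglHom (m := m) 1 c) (sglHom 1 c')) = 0 := by
  rw [pair_K0_Dm]
  simp [sglHom]

theorem hK0_shift (d c : F) :
    ψ (pair (K0t m F) (Dm (sglHom 1 c) (Pi.single 0 d)) - pair (K0t m F) (Dm (Pi.single 0 d) (sglHom 1 c))) =
      etaS ψ d c := by
  show ψ _ = ψ (2 * (d * c))
  congr 1
  rw [pair_K0_Dm, pair_K0_Dm]
  simp [sglHom]
  ring

/-- The eigenspace of the element of rank two is a multiple of the field order. -/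
theorem finrank_K0 (hψ : ψ ≠ 1) (h2 : (2 : F) ≠ 0) (χ : AddChar F ℂ) :
    finrank ℂ (eigK E ψ ρ (K0t m F)) = Fintype.card F *
      finrank ℂ (eig (phA E ψ ρ (sglHom 1) (K0t m F) hK0_comm) ⊤ χ) := by
  rw [finrank_uniform E ψ ρ hK0_comm (fun d => Pi.single 0 d) (etaS ψ) (etaS_bijective hψ h2).2
    hK0_shift χ, Nat.card_eq_fintype_card]

theorem pair_Dm_sgl (K : AltM (m + 3) F) (i j : Fin (m + 3)) (z z' : F) :
    pair K (Dm (Pi.single i z) (Pi.single j z')) = z' * z * K.1 j i := by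
  rw [pair_Dm, Finset.sum_eq_single j (fun x _ hx => Finset.sum_eq_zero fun y _ => by
      rw [Pi.single_eq_of_ne hx, zero_mul, zero_mul]) (by simp),
    Finset.sum_eq_single i (fun y _ hy => by rw [Pi.single_eq_of_ne hy, mul_zero, zero_mul]) (by simp),
    Pi.single_eq_same, Pi.single_eq_same]

theorem pair_Dm_add_left (K : AltM (m + 3) F) (u u' v : Fin (m + 3) → F) :
    pair K (Dm (u + u') v) = pair K (Dm u v) + pair K (Dm u' v) := by
  simp only [pair_Dm, Pi.add_apply, mul_add, add_mul, Finset.sum_add_distrib]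

theorem pair_Dm_add_right (K : AltM (m + 3) F) (u v v' : Fin (m + 3) → F) :
    pair K (Dm u (v + v')) = pair K (Dm u v) + pair K (Dm u v') := by
  simp only [pair_Dm, Pi.add_apply, add_mul, Finset.sum_add_distrib]

end Cfsg.Agent.OrthOdd
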