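import Cfsg.Agent.OrthOdd.Frame
import Cfsg.Agent.Classical.OrthIndex
import Cfsg.Agent.Classical.OrthChar
import Cfsg.Agent.Classical.LinearBasic

/-!
The stabiliser of a maximal totally singular subspace in an isometry group of odd dimension.
-/

set_option autoImplicit false
set_option linter.unusedSectionVars false

namespace Cfsg.Agent.OrthOdd

open Matrix Module SLDeg OrthDeg QuadraticMap Classical.Quad
open scoped commutatorElement
open OrthMinus (K0t O2t)

variable {F : Type*} [Field F] {r m : ℕ}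

/-- The coordinates. -/
abbrev Sp (r : ℕ) (F : Type*) [Field F] := ((Fin r → F) × (Fin r → F)) × F

/-- The isometry group. -/
abbrev OB (r : ℕ) (F : Type*) [Field F] := oG (F := F) (V := Sp r F) (hyp (sqForm F) r)

theorem sqForm_apply' (z : F) : sqForm F z = z * z := rfl

/-- An element of the radical as a linear map. -/
noncomputable def wLin (u : Fin r → F) : Sp r F →ₗ[F] Sp r F where
  toFun p := ((p.1.1, fun i => p.1.2 i - u i * (u ⬝ᵥ p.1.1) - 2 * p.2 * u i), p.2 + u ⬝ᵥ p.1.1)
  map_add' p p' := by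
    refine Prod.ext (Prod.ext rfl (funext fun i => ?_)) ?_
    · simp only [Prod.fst_add, Prod.snd_add, Pi.add_apply, dotProduct_add]
      ring
    · simp only [Prod.fst_add, Prod.snd_add, dotProduct_add]
      ring
  map_smul' c p := by
    refine Prod.ext (Prod.ext rfl (funext fun i => ?_)) ?_
    · simp only [Prod.smul_fst, Prod.smul_snd, Pi.smul_apply, dotProduct_smul, RingHom.id_apply, smul_eq_mul]
      ring
    · simp only [Prod.smul_fst, Prod.smul_snd, dotProduct_smul, RingHom.id_apply, smul_eq_mul]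
      ring

theorem wLin_Q (u : Fin r → F) (p : Sp r F) : hyp (sqForm F) r (wLin u p) = hyp (sqForm F) r p := by
  rw [hyp_apply, hyp_apply]
  show (∑ i, p.1.1 i * (p.1.2 i - u i * (u ⬝ᵥ p.1.1) - 2 * p.2 * u i)) + sqForm F (p.2 + u ⬝ᵥ p.1.1) = _
  have e1 : ∑ i, p.1.1 i * u i = u ⬝ᵥ p.1.1 := Finset.sum_congr rfl fun i _ => mul_comm _ _
  have e : ∀ i, p.1.1 i * (p.1.2 i - u i * (u ⬝ᵥ p.1.1) - 2 * p.2 * u i) =
      p.1.1 i * p.1.2 i - (p.1.1 i * u i) * (u ⬝ᵥ p.1.1 + 2 * p.2) := fun i => by ring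
  rw [Finset.sum_congr rfl fun i _ => e i, Finset.sum_sub_distrib, ← Finset.sum_mul, e1, sqForm_apply', sqForm_apply']
  ring

/-- The central element as a linear map. -/
noncomputable def xLin (B : AltM r F) : Sp r F →ₗ[F] Sp r F where
  toFun p := ((p.1.1, p.1.2 + B.1 *ᵥ p.1.1), p.2)
  map_add' p p' := by
    refine Prod.ext (Prod.ext rfl ?_) rfl
    simp [Matrix.mulVec_add]; abel
  map_smul' c p := by
    refine Prod.ext (Prod.ext rfl ?_) rfl
    simp [Matrix.mulVec_smul]

theorem quad_alt' (B : AltM r F) (u : Fin r → F) : u ⬝ᵥ B.1 *ᵥ u = 0 := by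
  rw [← upper_sub B, sub_mulVec, dotProduct_sub, sub_eq_zero, mulVec_transpose]
  exact (dotProduct_mulVec u _ u).trans (dotProduct_comm _ _)

theorem xLin_Q (B : AltM r F) (p : Sp r F) : hyp (sqForm F) r (xLin B p) = hyp (sqForm F) r p := by
  rw [hyp_apply, hyp_apply]
  show (∑ i, p.1.1 i * (p.1.2 i + (B.1 *ᵥ p.1.1) i)) + sqForm F p.2 = _
  have h : ∑ i, p.1.1 i * (B.1 *ᵥ p.1.1) i = 0 := quad_alt' B p.1.1
  simp only [mul_add, Finset.sum_add_distrib, h, add_zero]

variable [Finite F] (h2 : (2 : F) ≠ 0)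

include h2 in
theorem nondeg_odd : (polarBilin (hyp (sqForm F) r)).Nondegenerate := nondeg_hyp (nondeg_sqForm h2) r

/-- An isometry from a linear map preserving the form. -/
noncomputable def oOf (f : Sp r F →ₗ[F] Sp r F) (hf : ∀ p, hyp (sqForm F) r (f p) = hyp (sqForm F) r p) : OB r F :=
  ⟨LinearEquiv.ofInjectiveEndo f (LinearMap.ker_eq_bot.1 (LinearMap.ker_eq_bot'.2 fun p hp =>
      eq_zero_of_polar (nondeg_odd h2) fun y => by
        have h : polar (hyp (sqForm F) r) (f p) (f y) = polar (hyp (sqForm F) r) p y := by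
          simp only [polar, ← map_add, hf]
        rw [← h, hp]
        simp [polar])),
    fun p => hf p⟩

theorem oOf_apply (f : Sp r F →ₗ[F] Sp r F) (hf : ∀ p, hyp (sqForm F) r (f p) = hyp (sqForm F) r p) (p : Sp r F) :
    (oOf h2 f hf).1 p = f p := rfl

/-- An element of the radical. -/
noncomputable def wO (u : Fin r → F) : OB r F := oOf h2 (wLin u) (wLin_Q u)

/-- A central element of the radical. -/
noncomputable def xO' (B : AltM r F) : OB r F := oOf h2 (xLin B) (xLin_Q B)

theorem wO_apply (u : Fin r → F) (p : Sp r F) : (wO h2 u).1 p =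
    ((p.1.1, fun i => p.1.2 i - u i * (u ⬝ᵥ p.1.1) - 2 * p.2 * u i), p.2 + u ⬝ᵥ p.1.1) := rfl

theorem xO'_apply (B : AltM r F) (p : Sp r F) : (xO' h2 B).1 p = ((p.1.1, p.1.2 + B.1 *ᵥ p.1.1), p.2) := rfl

theorem xO'_add (B C : AltM r F) : xO' h2 (B + C) = xO' h2 B * xO' h2 C := ext_oG fun p => by
  rw [oG_mul_apply]
  refine Prod.ext (Prod.ext rfl ?_) rfl
  show p.1.2 + (B.1 + C.1) *ᵥ p.1.1 = p.1.2 + C.1 *ᵥ p.1.1 + B.1 *ᵥ p.1.1
  rw [Matrix.add_mulVec]; abel

theorem xO'_injective : Function.Injective (xO' (r := r) h2) := fun B C h => by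
  refine Subtype.ext (Matrix.ext_of_mulVec_single fun i => ?_)
  have := congrArg (fun g : OB r F => (g.1 ((Pi.single i 1, 0), 0)).1.2) h
  simpa [xO', oOf_apply, xLin] using this

theorem wO_mul (u v : Fin r → F) : wO h2 u * wO h2 v = wO h2 (u + v) * xO' h2 (Dm u v) :=
  ext_oG fun p => by
    rw [oG_mul_apply, oG_mul_apply, wO_apply, wO_apply, xO'_apply, wO_apply]
    obtain ⟨⟨U, W⟩, z⟩ := p
    have e : ∀ i, ((Dm u v).1 *ᵥ U) i = v i * (u ⬝ᵥ U) - u i * (v ⬝ᵥ U) := fun i => by
      simp only [mulVec, dotProduct]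
      rw [Finset.mul_sum, Finset.mul_sum, ← Finset.sum_sub_distrib]
      exact Finset.sum_congr rfl fun j _ => by rw [Dm_apply]; ring
    refine Prod.ext (Prod.ext rfl (funext fun i => ?_)) ?_
    · simp only [Pi.add_apply, e, add_dotProduct]
      ring
    · simp only [add_dotProduct]
      ring

theorem wO_xO (u : Fin r → F) (B : AltM r F) : wO h2 u * xO' h2 B = xO' h2 B * wO h2 u :=
  ext_oG fun p => by
    rw [oG_mul_apply, oG_mul_apply, xO'_apply, wO_apply, wO_apply, xO'_apply]
    obtain ⟨⟨U, W⟩, z⟩ := p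
    refine Prod.ext (Prod.ext rfl (funext fun i => ?_)) rfl
    simp only [Pi.add_apply]
    ring

include h2 in
theorem exists_levi (A : Matrix (Fin r) (Fin r) F) (Ai : Matrix (Fin r) (Fin r) F) (h : Ai * A = 1) :
    ∃ g : OB r F, ∀ p, g.1 p = ((A *ᵥ p.1.1, Aiᵀ *ᵥ p.1.2), p.2) := by
  let f : Sp r F →ₗ[F] Sp r F :=
    { toFun := fun p => ((A *ᵥ p.1.1, Aiᵀ *ᵥ p.1.2), p.2)
      map_add' := fun p p' => by
        refine Prod.ext (Prod.ext ?_ ?_) rfl <;> simp [Matrix.mulVec_add]
      map_smul' := fun c p => by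
        refine Prod.ext (Prod.ext ?_ ?_) rfl <;> simp [Matrix.mulVec_smul] }
  refine ⟨oOf h2 f fun p => ?_, fun p => rfl⟩
  rw [hyp_apply, hyp_apply]
  show (A *ᵥ p.1.1) ⬝ᵥ (Aiᵀ *ᵥ p.1.2) + sqForm F p.2 = p.1.1 ⬝ᵥ p.1.2 + sqForm F p.2
  rw [Matrix.mulVec_transpose, dotProduct_comm, ← Matrix.dotProduct_mulVec, Matrix.mulVec_mulVec, h, Matrix.one_mulVec,
    dotProduct_comm]

theorem gl_inv_mul (M : GL (Fin r) F) : (M⁻¹).1 * M.1 = 1 := by
  rw [← Units.val_mul, inv_mul_cancel, Units.val_one]

/-- The Levi embedding of the general linear group. -/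
noncomputable def LG : GL (Fin r) F →* OB r F :=
  MonoidHom.mk' (fun M => (exists_levi h2 M.1 (M⁻¹).1 (gl_inv_mul M)).choose) fun M N => ext_oG fun p => by
    rw [oG_mul_apply, (exists_levi h2 (M * N).1 ((M * N)⁻¹).1 (gl_inv_mul _)).choose_spec,
      (exists_levi h2 M.1 (M⁻¹).1 (gl_inv_mul _)).choose_spec,
      (exists_levi h2 N.1 (N⁻¹).1 (gl_inv_mul _)).choose_spec, _root_.mul_inv_rev, Units.val_mul, Units.val_mul,
      transpose_mul]
    simp [Matrix.mulVec_mulVec]

theorem LG_apply (M : GL (Fin r) F) (p : Sp r F) :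
    (LG h2 M).1 p = ((M.1 *ᵥ p.1.1, (M⁻¹).1ᵀ *ᵥ p.1.2), p.2) :=
  (exists_levi h2 M.1 (M⁻¹).1 (gl_inv_mul M)).choose_spec p

theorem LG_xO (M : GL (Fin r) F) (B : AltM r F) :
    LG h2 M * xO' h2 (act M.1ᵀ B) = xO' h2 B * LG h2 M := ext_oG fun p => by
  rw [oG_mul_apply, oG_mul_apply, LG_apply, LG_apply, xO'_apply, xO'_apply]
  refine Prod.ext (Prod.ext rfl ?_) rfl
  show (M⁻¹).1ᵀ *ᵥ (p.1.2 + (act M.1ᵀ B).1 *ᵥ p.1.1) = (M⁻¹).1ᵀ *ᵥ p.1.2 + B.1 *ᵥ (M.1 *ᵥ p.1.1)
  rw [Matrix.mulVec_add, Matrix.mulVec_mulVec, Matrix.mulVec_mulVec, act_val, transpose_transpose,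
    ← Matrix.mul_assoc, ← Matrix.mul_assoc, ← transpose_mul, ← Units.val_mul, mul_inv_cancel, Units.val_one,
    transpose_one, Matrix.one_mul]

theorem inv_mul_val (A : SLn r F) : (A⁻¹).1 * A.1 = 1 := by
  rw [← Matrix.SpecialLinearGroup.coe_mul, inv_mul_cancel, Matrix.SpecialLinearGroup.coe_one]

/-- The Levi embedding of the special linear group. -/
noncomputable def LO' : SLn r F →* OB r F := (LG h2).comp Matrix.SpecialLinearGroup.toGL

theorem LO'_apply (A : SLn r F) (p : Sp r F) :
    (LO' h2 A).1 p = ((A.1 *ᵥ p.1.1, (A⁻¹).1ᵀ *ᵥ p.1.2), p.2) := by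
  show (LG h2 (Matrix.SpecialLinearGroup.toGL A)).1 p = _
  rw [LG_apply, ← map_inv]
  rfl

theorem LO'_wO (A : SLn r F) (u : Fin r → F) :
    LO' h2 A * wO h2 u = wO h2 ((A⁻¹).1ᵀ *ᵥ u) * LO' h2 A := ext_oG fun p => by
  rw [oG_mul_apply, oG_mul_apply, LO'_apply, LO'_apply, wO_apply, wO_apply]
  obtain ⟨⟨U, W⟩, z⟩ := p
  have et : ((A⁻¹).1ᵀ *ᵥ u) ⬝ᵥ (A.1 *ᵥ U) = u ⬝ᵥ U := by
    rw [mulVec_transpose, ← dotProduct_mulVec, mulVec_mulVec, inv_mul_val, one_mulVec]
  refine Prod.ext (Prod.ext rfl (funext fun i => ?_)) ?_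
  · simp only [et]
    have e : (fun j => W j - u j * (u ⬝ᵥ U) - 2 * z * u j) = W - (u ⬝ᵥ U + 2 * z) • u := funext fun j => by
      simp; ring
    rw [e, mulVec_sub, mulVec_smul]
    simp
    ring
  · simp only [et]

/-- The exchange of the first pair composed with the sign change of the last coordinate. -/
noncomputable def swapO : OB (m + 3) F :=
  rO (Q := hyp (sqForm F) (m + 3)) (v := ((e 0, e 0), 0)) (by
      simp [hyp_apply, sqForm_apply', Pi.single_apply]) *
    rO (Q := hyp (sqForm F) (m + 3)) (v := ((0, 0), 1)) (by simp [hyp_apply, sqForm_apply'])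

include h2 in
theorem swapO_apply (p : Sp (m + 3) F) : (swapO (F := F) (m := m)).1 p =
    ((Function.update p.1.1 0 (-p.1.2 0), Function.update p.1.2 0 (-p.1.1 0)), -p.2) := by
  rw [swapO, oG_mul_apply, rO_apply, rO_apply]
  have hQv : hyp (sqForm F) (m + 3) ((e 0, e 0), (0 : F)) = 1 := by simp [hyp_apply, sqForm_apply', Pi.single_apply]
  have hQw : hyp (sqForm F) (m + 3) (((0, 0), 1) : Sp (m + 3) F) = 1 := by simp [hyp_apply, sqForm_apply']
  rw [hQv, hQw, div_one, div_one]
  have hp : ∀ p : Sp (m + 3) F, polar (hyp (sqForm F) (m + 3)) p ((e 0, e 0), 0) = p.1.1 0 + p.1.2 0 := fun p => by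
    rw [polar_hyp, Finset.sum_eq_single 0 (fun j _ hj => by simp [e_ne hj]) (by simp)]
    simp [polar, sqForm_apply']
  have hw : polar (hyp (sqForm F) (m + 3)) p (((0, 0), 1) : Sp (m + 3) F) = 2 * p.2 := by
    rw [polar_hyp]
    simp [polar, sqForm_apply']
    ring
  rw [hw, hp]
  refine Prod.ext (Prod.ext (funext fun i => ?_) (funext fun i => ?_)) ?_
  · rcases eq_or_ne i 0 with rfl | hi
    · simp
    · simp [e_ne hi, Function.update_of_ne hi]
  · rcases eq_or_ne i 0 with rfl | hi
    · simp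
    · simp [e_ne hi, Function.update_of_ne hi]
  · simp; ring

include h2 in
theorem swapO_mem : (swapO (F := F) (m := m) : OB (m + 3) F) ∈ commutator (OB (m + 3) F) := by
  rw [← Abelianization.ker_of, MonoidHom.mem_ker, swapO, map_mul,
    of_rO_congr (nondeg_odd h2) (v := (((0, 0), 1) : Sp (m + 3) F)) _ (by simp [hyp_apply, sqForm_apply'])
      (t := 1) (by simp [hyp_apply, sqForm_apply', Pi.single_apply]),
    of_rO_self]

/-- The commutator subgroup. -/
abbrev OmB (r : ℕ) (F : Type*) [Field F] := ↥(commutator (OB r F))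

include h2 in
theorem LO'_mem (A : SLn (m + 3) F) : LO' h2 A ∈ commutator (OB (m + 3) F) := by
  classical
  have hA : A ∈ commutator (SLn (m + 3) F) := by
    rw [Classical.commutator_sl_eq_top (Or.inl (by simp))]; trivial
  have h := Subgroup.mem_map_of_mem (LO' h2) (show A ∈ ⁅(⊤ : Subgroup (SLn (m + 3) F)), ⊤⁆ from hA)
  rw [Subgroup.map_commutator] at h
  exact Subgroup.commutator_mono le_top le_top h

include h2 in
theorem xO'_mem (B : AltM r F) : xO' h2 B ∈ commutator (OB r F) := by
  classical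
  have hc : ∀ u v : Fin r → F, xO' h2 (Dm u v - Dm v u) ∈ commutator (OB r F) := fun u v => by
    have e : xO' h2 (Dm u v - Dm v u) = ⁅(wO h2 u : OB r F), wO h2 v⁆ := by
      rw [commutatorElement_def, eq_mul_inv_iff_mul_eq, eq_mul_inv_iff_mul_eq, mul_assoc, wO_mul, wO_mul, ← mul_assoc,
        ← wO_xO h2, mul_assoc, ← xO'_add, sub_add_cancel, add_comm v u]
    rw [e]
    exact Subgroup.commutator_mem_commutator (Subgroup.mem_top _) (Subgroup.mem_top _)
  have h0 : xO' h2 (0 : AltM r F) = 1 := by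
    have h := xO'_add h2 (0 : AltM r F) 0
    rwa [add_zero, left_eq_mul] at h
  let S : AddSubgroup (AltM r F) :=
    { carrier := {B | xO' h2 B ∈ commutator (OB r F)}
      zero_mem' := Set.mem_setOf.2 (h0 ▸ one_mem _)
      add_mem' := fun {B C} hB hC => Set.mem_setOf.2 (by rw [xO'_add]; exact mul_mem hB hC)
      neg_mem' := fun {B} hB => by
        have h := xO'_add h2 (-B) B
        rw [neg_add_cancel, h0] at h
        exact Set.mem_setOf.2 (by rw [eq_inv_of_mul_eq_one_left h.symm]; exact inv_mem hB) }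
  have hw : ∀ (c : F) (i j : Fin r), wedge (c • e i) (e j) ∈ S := by
    intro c i j
    have e : wedge (c • e i) (e j) = Dm (Pi.single j (c / 2)) (Pi.single i 1) - Dm (Pi.single i 1) (Pi.single j (c / 2)) := by
      refine Subtype.ext (Matrix.ext fun k l => ?_)
      rw [AddSubgroup.coe_sub, Matrix.sub_apply, Dm_apply, Dm_apply, wedge_apply]
      simp only [Pi.smul_apply, smul_eq_mul, Pi.single_apply]
      split_ifs <;> field_simp <;> ring
    rw [e]
    exact hc _ _
  have e : B = ∑ i, ∑ j, wedge (upper B.1 i j • e i) (e j) := by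
    refine Subtype.ext (Matrix.ext fun k l => ?_)
    conv_lhs => rw [← upper_sub B]
    simp [AddSubgroup.val_finsetSum, Matrix.sum_apply, wedge_apply, Pi.single_apply, Finset.sum_sub_distrib]
  rw [e]
  exact S.sum_mem fun i _ => S.sum_mem fun j _ => hw _ i j

include h2 in
theorem wO_mem (u : Fin (m + 3) → F) : wO h2 u ∈ commutator (OB (m + 3) F) := by
  classical
  have hdiff : ∀ (A : SLn (m + 3) F) (y : Fin (m + 3) → F),
      wO h2 ((A⁻¹).1ᵀ *ᵥ y - y) ∈ commutator (OB (m + 3) F) := by
    intro A y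
    set d := (A⁻¹).1ᵀ *ᵥ y - y with hd
    have h3 := wO_mul h2 d y
    rw [show d + y = (A⁻¹).1ᵀ *ᵥ y from sub_add_cancel _ _] at h3
    have h1 : wO h2 ((A⁻¹).1ᵀ *ᵥ y) = LO' h2 A * wO h2 y * (LO' h2 A)⁻¹ := by rw [LO'_wO, mul_inv_cancel_right]
    have h4 : wO h2 d = wO h2 ((A⁻¹).1ᵀ *ᵥ y) * (wO h2 y)⁻¹ * (wO h2 y * xO' h2 (Dm d y) * (wO h2 y)⁻¹) := by
      rw [eq_mul_inv_of_mul_eq h3]
      group
    rw [h4]
    refine mul_mem ?_ ((inferInstance : (commutator (OB (m + 3) F)).Normal).conj_mem _ (xO'_mem h2 _) _)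
    rw [h1, ← commutatorElement_def]
    exact Subgroup.commutator_mem_commutator (Subgroup.mem_top _) (Subgroup.mem_top _)
  have hsub : ∀ (a t : Fin (m + 3) → F) (h : t ⬝ᵥ a = 0) (y : Fin (m + 3) → F),
      wO h2 (-((y ⬝ᵥ a) • t)) ∈ commutator (OB (m + 3) F) := by
    intro a t h y
    have hinv : (tv a t h)⁻¹ = tv a (-t) (by rw [neg_dotProduct, h, neg_zero]) :=
      inv_eq_of_mul_eq_one_right (by rw [tv_mul_right, tv_congr _ (by simp) rfl (add_neg_cancel t), tv_zero_right])
    have := hdiff (tv a t h) y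
    rwa [hinv, show (tv a (-t) (by rw [neg_dotProduct, h, neg_zero])).1ᵀ *ᵥ y - y = -((y ⬝ᵥ a) • t) by
      funext i
      simp [tv, Matrix.transpose_add, Matrix.transpose_vecMulVec, Matrix.add_mulVec, Matrix.vecMulVec_mulVec,
        Matrix.neg_mulVec, neg_vecMulVec, vecMulVec_neg, dotProduct_comm, mul_comm]] at this
  set u₁ : Fin (m + 3) → F := Function.update u 0 0 with hu₁
  have h01 : (0 : Fin (m + 3)) ≠ 1 := by simp
  have a1 : wO h2 u₁ ∈ commutator (OB (m + 3) F) := by
    have := hsub (e 0) (-u₁) (by simp [u₁]) (e 0)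
    simpa using this
  have a2 : wO h2 (Pi.single 0 (u 0)) ∈ commutator (OB (m + 3) F) := by
    have := hsub (e 1) (-(Pi.single 0 (u 0))) (by simp [h01.symm]) (e 1)
    simpa using this
  have e : u = u₁ + Pi.single 0 (u 0) := funext fun i => by
    rcases eq_or_ne i 0 with rfl | hi
    · simp [u₁]
    · simp [u₁, hi]
  have h := wO_mul h2 u₁ (Pi.single 0 (u 0))
  rw [← e] at h
  rw [eq_mul_inv_of_mul_eq h.symm]
  exact mul_mem (mul_mem a1 a2) (inv_mem (xO'_mem h2 _))

include h2 in
/-- The data of the stabiliser of a maximal totally singular subspace. -/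
theorem exists_frame : ∃ E : OFrame m F (OmB (m + 3) F),
    (∀ B, (E.x B).1 = xO' h2 B) := by
  classical
  refine ⟨
    { x :=
        { toFun := fun B => ⟨xO' h2 B, xO'_mem h2 B⟩
          map_zero_eq_one' := Subtype.ext (by
            have h := xO'_add h2 (0 : AltM (m + 3) F) 0
            rw [add_zero, left_eq_mul] at h
            exact h)
          map_add_eq_mul' := fun B C => Subtype.ext (xO'_add h2 B C) }
      wv := fun u => ⟨wO h2 u, wO_mem h2 u⟩
      wv_mul := fun u v => Subtype.ext (wO_mul h2 u v)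
      wv_x := fun u B => Subtype.ext (wO_xO h2 u B)
      L := (LO' h2).codRestrict _ (LO'_mem h2)
      hL := fun A B => Subtype.ext (LG_xO h2 (Matrix.SpecialLinearGroup.toGL A) B)
      hLw := fun A u => Subtype.ext (LO'_wO h2 A u)
      s := ⟨swapO, swapO_mem h2⟩
      s_x := fun B hB => Subtype.ext (ext_oG fun p => by
        show (swapO (F := F) (m := m)).1 ((xO' h2 B).1 p) = (xO' h2 B).1 ((swapO (F := F) (m := m)).1 p)
        rw [swapO_apply h2, swapO_apply h2, xO'_apply, xO'_apply]
        have hB0 : ∀ U : Fin (m + 3) → F, (B.1 *ᵥ U) 0 = 0 := fun U => by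
          simp [mulVec, dotProduct, hB]
        have hcol : ∀ (U : Fin (m + 3) → F) (c : F), B.1 *ᵥ Function.update U 0 c = B.1 *ᵥ U := fun U c => funext fun i => by
          simp only [mulVec, dotProduct]
          refine Finset.sum_congr rfl fun j _ => ?_
          rcases eq_or_ne j 0 with rfl | hj
          · rw [alt_swap B 0 i, hB]; simp
          · rw [Function.update_of_ne hj]
        simp only [hcol]
        refine Prod.ext (Prod.ext ?_ (funext fun i => ?_)) rfl
        · simp [hB0]
        · rcases eq_or_ne i 0 with rfl | hi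
          · simp [hB0]
          · simp [Function.update_of_ne hi])
      s_rel := fun B => by
        set d : Fin (m + 3) → F := fun i => if i = 0 then 0 else 1
        set t : Fin (m + 3) → F := fun j => -B.1 0 j with htdef
        have ht : t ⬝ᵥ e 0 = 0 := by simp [t, alt_diag]
        refine ⟨act (diagonal d) B, t, ht, by simp [act_val, diagonal_transpose, d], ?_⟩
        rw [mul_inv_eq_iff_eq_mul]
        refine Subtype.ext (ext_oG fun p => ?_)
        show (swapO (F := F) (m := m)).1 ((xO' h2 B).1 p) = (xO' h2 _).1 ((LO' h2 (tv (e 0) t ht)).1 ((swapO (F := F) (m := m)).1 p))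
        have hinv : (tv (e 0) t ht)⁻¹ = tv (e 0) (-t) (by rw [neg_dotProduct, ht, neg_zero]) :=
          inv_eq_of_mul_eq_one_right (by rw [tv_mul_right, tv_congr _ (by simp) rfl (add_neg_cancel t), tv_zero_right])
        rw [swapO_apply h2, swapO_apply h2, LO'_apply, hinv, xO'_apply, xO'_apply]
        obtain ⟨⟨U, W⟩, z⟩ := p
        have hA : ∀ V i, ((tv (e 0) t ht).1 *ᵥ V) i = V i + (e 0 : Fin (m + 3) → F) i * (t ⬝ᵥ V) := fun V i => by
          rw [← smul_eq, tv_apply, Pi.add_apply, Pi.smul_apply, smul_eq_mul, mul_comm]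
        have hAT : ∀ V i, ((tv (e 0) (-t) (by rw [neg_dotProduct, ht, neg_zero])).1ᵀ *ᵥ V) i = V i - t i * V 0 :=
          fun V i => by
            simp [tv, Matrix.transpose_add, Matrix.transpose_vecMulVec, Matrix.add_mulVec, Matrix.vecMulVec_mulVec,
              Matrix.neg_mulVec, neg_vecMulVec, vecMulVec_neg, sub_eq_add_neg, mul_comm]
        have hdot : t ⬝ᵥ Function.update U 0 (-W 0) = -(B.1 *ᵥ U) 0 := by
          simp only [dotProduct, mulVec, ← Finset.sum_neg_distrib]
          refine Finset.sum_congr rfl fun j _ => ?_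
          rcases eq_or_ne j 0 with rfl | hj
          · simp [t, alt_diag]
          · simp [t, Function.update_of_ne hj]
        have hC : ∀ i j, (act (diagonal d) B).1 i j = d i * B.1 i j * d j := fun i j => by
          simp [act_val, diagonal_transpose, mul_diagonal, diagonal_mul]
        refine Prod.ext (Prod.ext (funext fun i => ?_) (funext fun i => ?_)) rfl
        · show Function.update U 0 (-(W + B.1 *ᵥ U) 0) i = ((tv (e 0) t ht).1 *ᵥ Function.update U 0 (-W 0)) i
          rw [hA, hdot]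
          rcases eq_or_ne i 0 with rfl | hi
          · simp; ring
          · simp [Function.update_of_ne hi, e_ne hi]
        · show Function.update (W + B.1 *ᵥ U) 0 (-U 0) i =
            ((tv (e 0) (-t) (by rw [neg_dotProduct, ht, neg_zero])).1ᵀ *ᵥ Function.update W 0 (-U 0)) i +
              ((act (diagonal d) B).1 *ᵥ ((tv (e 0) t ht).1 *ᵥ Function.update U 0 (-W 0))) i
          rw [hAT]
          rcases eq_or_ne i 0 with rfl | hi
          · have : ((act (diagonal d) B).1 *ᵥ ((tv (e 0) t ht).1 *ᵥ Function.update U 0 (-W 0))) 0 = 0 := by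
              simp only [mulVec, dotProduct]
              refine Finset.sum_eq_zero fun j _ => ?_
              rw [hC]
              simp [d]
            rw [this]
            simp [t, alt_diag]
          · have e1 : ((act (diagonal d) B).1 *ᵥ ((tv (e 0) t ht).1 *ᵥ Function.update U 0 (-W 0))) i =
                (B.1 *ᵥ U) i - B.1 i 0 * U 0 := by
              rw [eq_sub_iff_add_eq]
              show ∑ j, (act (diagonal d) B).1 i j * _ + _ = ∑ j, B.1 i j * U j
              rw [← Finset.add_sum_erase _ _ (Finset.mem_univ (0 : Fin (m + 3))),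
                ← Finset.add_sum_erase _ (fun j => B.1 i j * U j) (Finset.mem_univ (0 : Fin (m + 3))), hC,
                show d 0 = 0 from if_pos rfl, mul_zero, zero_mul, zero_add, add_comm]
              congr 1
              refine Finset.sum_congr rfl fun j hj => ?_
              have hj0 := Finset.ne_of_mem_erase hj
              rw [hC, show d i = 1 from if_neg hi, show d j = 1 from if_neg hj0, one_mul, mul_one, hA, e_ne hj0,
                zero_mul, add_zero, Function.update_of_ne hj0]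
            rw [e1, Function.update_of_ne hi, Function.update_of_ne hi, Function.update_self, Pi.add_apply,
              show t i = B.1 i 0 by simp [t, alt_swap B i 0]]
            ring
      s_dia := fun d hd => by
        have hd0 : ∀ i, d i ≠ 0 := fun i hi => by
          have := Finset.prod_eq_zero (Finset.mem_univ i) hi
          rw [hd] at this
          exact one_ne_zero this
        set d' : Fin (m + 3) → F := Function.update d 0 (d 0)⁻¹ with hd'
        have hd'0 : ∀ i, d' i ≠ 0 := fun i => by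
          rcases eq_or_ne i 0 with rfl | hi
          · simp [d', hd0]
          · simp [d', hi, hd0]
        let M : GL (Fin (m + 3)) F :=
          Matrix.GeneralLinearGroup.mkOfDetNeZero (diagonal d') (by
            rw [det_diagonal]; exact Finset.prod_ne_zero_iff.2 fun i _ => hd'0 i)
        have hM : (M⁻¹).1 = diagonal fun i => (d' i)⁻¹ := by
          refine left_inv_eq_right_inv (gl_inv_mul M) ?_
          show diagonal d' * _ = 1
          rw [diagonal_mul_diagonal, ← diagonal_one]
          exact congrArg diagonal (funext fun i => mul_inv_cancel₀ (hd'0 i))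
        have hdi : ((dsl d hd)⁻¹).1 = diagonal fun i => (d i)⁻¹ := by
          refine left_inv_eq_right_inv (inv_mul_val (dsl d hd)) ?_
          show diagonal d * _ = 1
          rw [diagonal_mul_diagonal, ← diagonal_one]
          exact congrArg diagonal (funext fun i => mul_inv_cancel₀ (hd0 i))
        have key : (swapO (F := F) (m := m)) * LO' h2 (dsl d hd) * swapO⁻¹ = LG h2 M := by
          rw [mul_inv_eq_iff_eq_mul]
          refine ext_oG fun p => ?_
          rw [oG_mul_apply, oG_mul_apply, swapO_apply h2, swapO_apply h2, LO'_apply, LG_apply, hM, hdi,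
            diagonal_transpose, diagonal_transpose]
          refine Prod.ext (Prod.ext (funext fun i => ?_) (funext fun i => ?_)) rfl
          · show Function.update (diagonal d *ᵥ p.1.1) 0 _ i = (diagonal d' *ᵥ _) i
            rw [mulVec_diagonal]
            rcases eq_or_ne i 0 with rfl | hi
            · simp [d', mulVec_diagonal]
            · simp [d', hi, mulVec_diagonal, dsl]
          · show Function.update ((diagonal fun i => (d i)⁻¹) *ᵥ p.1.2) 0 _ i = ((diagonal fun i => (d' i)⁻¹) *ᵥ _) i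
            rw [mulVec_diagonal]
            rcases eq_or_ne i 0 with rfl | hi
            · simp [d', mulVec_diagonal, dsl]
            · simp [d', hi, mulVec_diagonal]
        refine ⟨fun B => Subtype.ext ?_, fun A A' h => Subtype.ext ?_⟩
        · show (swapO (F := F) (m := m)) * LO' h2 (dsl d hd) * swapO⁻¹ * xO' h2 (act (diagonal d')ᵀ B) =
            xO' h2 B * (swapO * LO' h2 (dsl d hd) * swapO⁻¹)
          rw [key]
          exact LG_xO h2 M B
        · show (swapO (F := F) (m := m)) * LO' h2 (dsl d hd) * swapO⁻¹ * LO' h2 A = LO' h2 A' * (swapO * LO' h2 (dsl d hd) * swapO⁻¹)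
          rw [key]
          show LG h2 M * LG h2 _ = LG h2 _ * LG h2 M
          rw [← map_mul, ← map_mul]
          exact congrArg (LG h2) (Units.ext h) }, fun B => rfl⟩

end Cfsg.Agent.OrthOdd
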