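import Cfsg.Agent.OrthOdd.Block
import Cfsg.Agent.OrthOdd.Heart
import Cfsg.Agent.OrthOdd.Model
import Cfsg.Agent.OrthDeg.SLRep
import Cfsg.Agent.OrthDeg.Plus
import Cfsg.Agent.Classical.OrthSimple

/-!
The smallest degree of a nontrivial irreducible representation of a commutator subgroup of an isometry group in odd
dimension.
-/

set_option autoImplicit false
set_option linter.unusedSectionVars false

namespace Cfsg.Agent.OrthOdd

open Matrix Module SLDeg OrthDeg QuadraticMap Classical.Quad SUDeg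
open OrthMinus (K0t O2t pair_K0t K0t_mem K0t_ne card_O2t_mul trace_moved trace_eq_sum proj_top_mem rep_injective)

variable {F : Type*} [Field F] [Fintype F] {m : ℕ}

theorem trace_mul_proj {A W : Type*} [AddCommGroup A] [Finite A] [AddCommGroup W] [Module ℂ W] [FiniteDimensional ℂ W]
    (φ : AddChar A (Module.End ℂ W)) (χ : AddChar A ℂ) (T : Module.End ℂ W)
    (hT : ∀ v ∈ eig φ ⊤ χ, T v ∈ eig φ ⊤ χ) :
    LinearMap.trace ℂ W (T * proj φ χ) = LinearMap.trace ℂ _ (T.restrict hT) := by
  classical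
  have hmem : ∀ x, (T * proj φ χ) x ∈ eig φ ⊤ χ := fun x => hT _ (proj_top_mem φ χ x)
  rw [← LinearMap.trace_restrict_eq_of_forall_mem _ _ hmem]
  congr 1
  exact LinearMap.ext fun w => Subtype.ext (congrArg T ((proj_of_mem w.2).trans (if_pos rfl)))

/-- A multiple of the matrix of rank two. -/
def Kc (m : ℕ) (c : F) : AltM (m + 3) F :=
  ⟨c • (K0t m F).1, by rw [transpose_smul, (K0t m F).2.1, smul_neg], fun i => by simp [alt_diag]⟩

theorem pair_Kc (c : F) (B : AltM (m + 3) F) : pair (Kc m c) B = c * B.1 0 1 := by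
  rw [← pair_K0t B]
  simp only [pair, Finset.mul_sum, Kc]
  refine Finset.sum_congr rfl fun i _ => Finset.sum_congr rfl fun j _ => ?_
  split_ifs <;> simp [mul_assoc]

theorem Kc_mem {c : F} (hc : c ≠ 0) : Kc m c ∈ O2t m F := by
  have hKe : Kc m c = wedge (c • e 0) (e 1) := Subtype.ext (Matrix.ext fun i j => by
    simp [Kc, K0t, wedge_apply]; ring)
  have hli : LinearIndependent F ![(c • e 0 : Fin (m + 3) → F), e 1] := by
    refine li_pair (smul_ne_zero hc (by simp)) fun h => ?_
    obtain ⟨l, hl⟩ := Submodule.mem_span_singleton.1 h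
    simpa using congrFun hl 1
  obtain ⟨g, g0, g1⟩ := exists_move2 hli
  exact ⟨g, by rw [K0t, act_wedge, ← smul_eq, ← smul_eq, g0, g1, hKe]⟩

theorem Kc_ne {c : F} (hc : c ≠ 0) : Kc m c ≠ 0 := fun h => by
  simpa [Kc, K0t, wedge_apply, hc] using congrArg (fun K : AltM (m + 3) F => K.1 0 1) h

theorem lamT_Kc (ψ : AddChar F ℂ) (c : F) : lamT (ψ.mulShift c) (K0t m F) = lamT ψ (Kc m c) :=
  DFunLike.ext _ _ fun B => by
    show ψ.mulShift c (pair (K0t m F) B) = ψ (pair (Kc m c) B)
    rw [AddChar.mulShift_apply, pair_K0t, pair_Kc]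

theorem finite_OB (r : ℕ) : Finite (OB r F) :=
  Finite.of_injective (fun g => fun x => g.1 x) fun _ _ e => ext_oG (congrFun e)

/-- The fixed points of a diagonal matrix. -/
theorem fixed_diag_iff {d : Fin (m + 3) → F} (M : GL (Fin (m + 3)) F) (hM : M.1 = diagonal d) {v : Fin (m + 3) → F}
    (hv : v ≠ 0) :
    ptMap M (Projectivization.mk F v hv) = Projectivization.mk F v hv ↔ ∃ l : F, ∀ i, d i * v i = l * v i := by
  rw [ptMap_mk, Projectivization.mk_eq_mk_iff']
  refine exists_congr fun l => ⟨fun h i => ?_, fun h => funext fun i => ?_⟩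
  · have := congrFun h i
    rw [hM, mulVec_diagonal, Pi.smul_apply, smul_eq_mul] at this
    exact this.symm
  · rw [hM, mulVec_diagonal, Pi.smul_apply, smul_eq_mul, h i]

theorem fixed_count {t : F} (ht0 : t ≠ 0) (ht1 : t * t ≠ 1) (M M' : GL (Fin (m + 3)) F)
    (hM : M.1 = diagonal fun k => if k = 0 then t else if k = 1 then t⁻¹ else 1)
    (hM' : M'.1 = diagonal (Function.update (fun k => if k = 0 then t else if k = 1 then t⁻¹ else 1) 0 t⁻¹)) :
    Nat.card {p : Pt m F // ptMap M' p = p} = Nat.card {p : Pt m F // ptMap M p = p} + (Fintype.card F - 1) ∧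
      2 ≤ Nat.card {p : Pt m F // ptMap M p = p} := by
  classical
  set d : Fin (m + 3) → F := fun k => if k = 0 then t else if k = 1 then t⁻¹ else 1 with hd
  set d' := Function.update d 0 t⁻¹ with hd'
  have h01 : (1 : Fin (m + 3)) ≠ 0 := by simp
  have htt : t ≠ t⁻¹ := fun h => ht1 (by nth_rewrite 2 [h]; exact mul_inv_cancel₀ ht0)
  have ht' : t ≠ 1 := fun h => ht1 (by rw [h, one_mul])
  have hti : t⁻¹ ≠ 1 := fun h => ht' (inv_eq_one.1 h)
  set A := Finset.univ.filter fun p : Pt m F => ptMap M p = p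
  set A' := Finset.univ.filter fun p : Pt m F => ptMap M' p = p
  have hcA : Nat.card {p : Pt m F // ptMap M p = p} = A.card := by rw [Nat.card_eq_fintype_card, Fintype.card_subtype]
  have hcA' : Nat.card {p : Pt m F // ptMap M' p = p} = A'.card := by rw [Nat.card_eq_fintype_card, Fintype.card_subtype]
  let w : Fˣ → Fin (m + 3) → F := fun c => e 0 + (c : F) • e 1
  have hw : ∀ c, w c ≠ 0 := fun c h => by simpa [w, h01.symm] using congrFun h 0
  let J : Fˣ → Pt m F := fun c => Projectivization.mk F (w c) (hw c)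
  have hJ : Function.Injective J := fun c c' h => by
    obtain ⟨l, hl⟩ := (Projectivization.mk_eq_mk_iff' F _ _ _ _).1 h
    have h0 := congrFun hl 0
    have h1 := congrFun hl 1
    simp [w, h01, h01.symm] at h0 h1
    exact Units.ext (by rw [← h1, h0, one_mul])
  have hsub : A ⊆ A' := fun p hp => by
    obtain ⟨v, hv, rfl⟩ : ∃ v hv, p = Projectivization.mk F v hv := ⟨_, p.rep_nonzero, p.mk_rep.symm⟩
    simp only [A, A', Finset.mem_filter, Finset.mem_univ, true_and] at hp ⊢
    obtain ⟨l, hl⟩ := (fixed_diag_iff M hM hv).1 hp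
    refine (fixed_diag_iff M' hM' hv).2 ⟨if l = t then t⁻¹ else l, fun i => ?_⟩
    rcases eq_or_ne (v i) 0 with h | h
    · rw [h, mul_zero, mul_zero]
    rw [← mul_right_cancel₀ h (hl i)]
    congr 1
    rcases eq_or_ne i 0 with rfl | hi
    · simp [d', d]
    · rw [hd', Function.update_of_ne hi]
      have : d i ≠ t := by
        simp only [d, if_neg hi]
        split_ifs
        exacts [htt.symm, ht'.symm]
      rw [if_neg this]
  have hdiff : A' \ A = Finset.univ.image J := by
    refine Finset.ext fun p => ⟨fun hp => ?_, fun hp => ?_⟩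
    · obtain ⟨v, hv, rfl⟩ : ∃ v hv, p = Projectivization.mk F v hv := ⟨_, p.rep_nonzero, p.mk_rep.symm⟩
      simp only [A, A', Finset.mem_sdiff, Finset.mem_filter, Finset.mem_univ, true_and] at hp
      obtain ⟨l, hl⟩ := (fixed_diag_iff M' hM' hv).1 hp.1
      have hn : ¬ ∃ l : F, ∀ i, d i * v i = l * v i := fun h => hp.2 ((fixed_diag_iff M hM hv).2 h)
      have hrest : ∀ i, i ≠ 0 → i ≠ 1 → v i = 0 := fun i hi0 hi1 => by
        by_contra h
        have hl1 : l = 1 := by
          refine mul_right_cancel₀ h ?_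
          rw [← hl i, hd', Function.update_of_ne hi0]
          simp [d, hi0, hi1]
        refine hn ⟨1, fun j => ?_⟩
        have hj := hl j
        rw [hl1] at hj
        rcases eq_or_ne j 0 with rfl | hj0
        · rcases eq_or_ne (v 0) 0 with h0 | h0
          · rw [h0, mul_zero, mul_zero]
          · exact absurd (mul_right_cancel₀ h0 hj) (by simpa [d'] using hti)
        · rwa [hd', Function.update_of_ne hj0] at hj
      have hv0 : v 0 ≠ 0 := fun h0 => hn ⟨t⁻¹, fun j => by
        rcases eq_or_ne j 0 with rfl | hj0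
        · rw [h0, mul_zero, mul_zero]
        · rcases eq_or_ne j 1 with rfl | hj1
          · simp [d, h01]
          · rw [hrest j hj0 hj1, mul_zero, mul_zero]⟩
      have hv1 : v 1 ≠ 0 := fun h0 => hn ⟨t, fun j => by
        rcases eq_or_ne j 1 with rfl | hj1
        · rw [h0, mul_zero, mul_zero]
        · rcases eq_or_ne j 0 with rfl | hj0
          · simp [d]
          · rw [hrest j hj0 hj1, mul_zero, mul_zero]⟩
      refine Finset.mem_image.2 ⟨Units.mk0 (v 1 / v 0) (div_ne_zero hv1 hv0), Finset.mem_univ _, ?_⟩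
      refine (Projectivization.mk_eq_mk_iff' F _ _ _ _).2 ⟨(v 0)⁻¹, funext fun j => ?_⟩
      rcases eq_or_ne j 0 with rfl | hj0
      · simp [w, hv0, h01.symm]
      · rcases eq_or_ne j 1 with rfl | hj1
        · simp [w, h01]; field_simp
        · simp [w, hj0, hj1, hrest j hj0 hj1]
    · obtain ⟨c, -, rfl⟩ := Finset.mem_image.1 hp
      simp only [A, A', Finset.mem_sdiff, Finset.mem_filter, Finset.mem_univ, true_and, J]
      refine ⟨(fixed_diag_iff M' hM' (hw c)).2 ⟨t⁻¹, fun j => ?_⟩, fun h => ?_⟩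
      · rcases eq_or_ne j 0 with rfl | hj0
        · simp [hd']
        · rw [hd', Function.update_of_ne hj0]
          rcases eq_or_ne j 1 with rfl | hj1
          · simp [hd, h01]
          · simp [w, hj0, hj1]
      · obtain ⟨l, hl⟩ := (fixed_diag_iff M hM (hw c)).1 h
        have h0 := hl 0
        have h1 := hl 1
        simp [w, h01, h01.symm] at h0 h1
        exact htt (h0.trans h1.symm)
  refine ⟨?_, ?_⟩
  · rw [hcA, hcA', ← Finset.card_sdiff_add_card_eq_card hsub, hdiff, Finset.card_image_of_injective _ hJ,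
      Finset.card_univ, Fintype.card_units, add_comm]
  · rw [hcA]
    have hin : ∀ i : Fin (m + 3), i = 0 ∨ i = 1 →
        Projectivization.mk F (e i : Fin (m + 3) → F) (by simp) ∈ A := fun i _ => by
      simp only [A, Finset.mem_filter, Finset.mem_univ, true_and]
      refine (fixed_diag_iff M hM _).2 ⟨d i, fun j => ?_⟩
      rcases eq_or_ne j i with rfl | hj
      · rfl
      · simp [hj]
    refine Finset.one_lt_card.2 ⟨_, hin 0 (Or.inl rfl), _, hin 1 (Or.inr rfl), fun h => ?_⟩
    obtain ⟨l, hl⟩ := (Projectivization.mk_eq_mk_iff' F _ _ _ _).1 h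
    simpa [h01.symm] using congrFun hl 0

section Core

variable {G : Type*} [Group G] [Finite G] (E : OFrame m F G) {ψ : AddChar F ℂ} {k : ℕ}
variable (ρ : Representation ℂ G (Fin k → ℂ))

theorem za_ne_zero {W : Type*} [AddCommGroup W] [Module ℂ W] [FiniteDimensional ℂ W] {π : Representation ℂ (SLn (m + 3) F) W} (H : Heart π)
    {a : Fin (m + 3) → F} (ha : a ≠ 0) : H.za a ≠ 0 := by
  classical
  intro h
  obtain ⟨g, hg⟩ := exists_sl_move ha
  set p : Pt m F := Projectivization.mk F a ha
  have h1 : ∑ q, (if q = p then (1 : ℂ) else 0) • H.za q.rep = 0 := by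
    rw [Finset.sum_eq_single p (fun q _ hq => by rw [if_neg hq, zero_smul]) (by simp), H.za_mk ha, h, smul_zero]
  obtain ⟨v, hv⟩ : ∃ q : Pt m F, q ≠ p := by
    by_contra hc
    push Not at hc
    have h01 : (e 0 : Fin (m + 3) → F) ≠ 0 := by simp
    have h11 : (e 1 : Fin (m + 3) → F) ≠ 0 := by simp
    have := (hc (Projectivization.mk F _ h01)).trans (hc (Projectivization.mk F _ h11)).symm
    obtain ⟨l, hl⟩ := (Projectivization.mk_eq_mk_iff' F _ _ _ _).1 this
    simpa using congrFun hl 0
  have := H.rel _ h1 p v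
  rw [if_pos rfl, if_neg hv] at this
  exact one_ne_zero this

set_option maxHeartbeats 1600000 in
/-- A representation of the least possible degree below the bound does not exist. -/
theorem no_boundary (hψ : ψ ≠ 1) (hq : 4 < Fintype.card F) (h2 : (2 : F) ≠ 0)
    (hblock : ∀ K ∈ O2t m F, finrank ℂ (eigK E ψ ρ K) = Fintype.card F)
    (hmove : ∃ g, ∃ v ∈ eigK E ψ ρ 0, ρ (E.L g) v ≠ v)
    (hle : finrank ℂ (eigK E ψ ρ 0) ≤ (Fintype.card F ^ (m + 3) - Fintype.card F) / (Fintype.card F - 1)) : False := by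
  classical
  set φ := phx E ρ with hφ
  set V := eigK E ψ ρ 0 with hV
  have hinv : ∀ g, ∀ v ∈ V, ρ (E.L g) v ∈ V := fun g v hv => by
    have h := move_eigK E ψ ρ (E.hL g) hv
    rwa [map_zero] at h
  let π : Representation ℂ (SLn (m + 3) F) V :=
    { toFun := fun g => (ρ (E.L g)).restrict (hinv g)
      map_one' := by ext w; simp
      map_mul' := fun g g' => by ext w; simp }
  obtain ⟨g₀, v₀, hv₀, hg₀⟩ := hmove
  obtain ⟨H⟩ := exists_heart π hq ⟨g₀, ⟨v₀, hv₀⟩, fun h => hg₀ (congrArg Subtype.val h)⟩ hle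
  -- the generator
  obtain ⟨t, hgen⟩ := IsCyclic.exists_generator (α := Fˣ)
  have htt : (t : F) * t ≠ 1 := fun h => by
    obtain ⟨x, hx0, hx2⟩ := exists_scalar' (F := F) (by omega)
    obtain ⟨i, hi⟩ := hgen (Units.mk0 x hx0)
    have ht2 : t * t = 1 := Units.ext h
    have : (t ^ i) * (t ^ i) = 1 := by rw [← mul_zpow, ht2, _root_.one_zpow]
    have hx : t ^ i = Units.mk0 x hx0 := hi
    rw [hx] at this
    exact hx2 (congrArg Units.val this)
  set τ : F := (t : F) with hτdef
  have hτ0 : τ ≠ 0 := t.ne_zero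
  set d : Fin (m + 3) → F := fun k => if k = 0 then τ else if k = 1 then τ⁻¹ else 1 with hd
  have hdprod : ∏ i, d i = 1 := by
    have h := (h01 m τ hτ0).2
    rwa [h01_val, det_diagonal] at h
  have hdsl : dsl d hdprod = h01 m τ hτ0 := Subtype.ext rfl
  set d' : Fin (m + 3) → F := Function.update d 0 (d 0)⁻¹ with hd'
  have hd'eq : d' = Function.update d 0 τ⁻¹ := by rw [hd', show d 0 = τ from if_pos rfl]
  have hd'0 : ∀ i, d' i ≠ 0 := fun i => by
    rcases eq_or_ne i 0 with rfl | hi
    · simp [hd'eq, hτ0]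
    · rw [hd'eq, Function.update_of_ne hi]
      simp only [d, if_neg hi]
      split_ifs
      exacts [inv_ne_zero hτ0, one_ne_zero]
  obtain ⟨hgx, hgL⟩ := E.s_dia d hdprod
  rw [hdsl] at hgx hgL
  set g := E.s * E.L (h01 m τ hτ0) * E.s⁻¹ with hg
  -- the centraliser of the swap
  let X : AddSubgroup (AltM (m + 3) F) :=
    { carrier := {B | ∀ j, B.1 0 j = 0}
      zero_mem' := fun j => rfl
      add_mem' := fun {B C} hB hC j => by
        show B.1 0 j + C.1 0 j = 0
        rw [hB, hC, add_zero]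
      neg_mem' := fun {B} hB j => by
        show -B.1 0 j = 0
        rw [hB, neg_zero] }
  let φ' : AddChar X (Module.End ℂ (Fin k → ℂ)) := φ.compAddMonoidHom X.subtype
  set P := proj φ' 1 with hP
  have hcomm : ρ E.s * P = P * ρ E.s := by
    let _ := Fintype.ofFinite X
    refine LinearMap.ext fun v => ?_
    show ρ E.s (P v) = P (ρ E.s v)
    rw [hP, SUDeg.proj_apply, SUDeg.proj_apply, map_smul, map_sum]
    congr 1
    refine Finset.sum_congr rfl fun B _ => ?_
    rw [map_smul]
    congr 1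
    show ρ E.s (ρ (E.x B.1) v) = ρ (E.x B.1) (ρ E.s v)
    rw [← Module.End.mul_apply, ← map_mul, E.s_x B.1 B.2, map_mul, Module.End.mul_apply]
  have htrace : LinearMap.trace ℂ _ (ρ g * P) = LinearMap.trace ℂ _ (ρ (E.L (h01 m τ hτ0)) * P) := by
    have hs : ρ E.s⁻¹ * ρ E.s = 1 := by rw [← map_mul, inv_mul_cancel, map_one]
    rw [hg, show ρ (E.s * E.L (h01 m τ hτ0) * E.s⁻¹) = ρ E.s * ρ (E.L (h01 m τ hτ0)) * ρ E.s⁻¹ by
      rw [map_mul, map_mul], mul_assoc, mul_assoc, LinearMap.trace_mul_comm]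
    congr 1
    rw [mul_assoc, mul_assoc, ← hcomm, ← mul_assoc (ρ E.s⁻¹), hs, one_mul]
  set S := Finset.univ.filter fun K : AltM (m + 3) F => ∀ B ∈ X, pair K B = 0 with hS
  have hlam : ∀ K, K ∈ S ↔ ((lamT ψ K).compAddMonoidHom X.subtype : AddChar X ℂ) = 1 := by
    intro K
    simp only [S, Finset.mem_filter, Finset.mem_univ, true_and]
    refine ⟨fun h => DFunLike.ext _ _ fun B => ?_, fun h B hB => OrthMinus.eq_zero_of_psi hψ fun c => ?_⟩
    · show ψ (pair K B.1) = 1
      rw [h B.1 B.2, AddChar.map_zero_eq_one]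
    · let B' : AltM (m + 3) F := ⟨c • B.1, by rw [transpose_smul, B.2.1, smul_neg], fun i => by simp [alt_diag]⟩
      have hB' : B' ∈ X := fun j => by show c * B.1 0 j = 0; rw [hB, mul_zero]
      have e : c * pair K B = pair K B' := by
        simp only [pair, Finset.mul_sum, B']
        refine Finset.sum_congr rfl fun i _ => Finset.sum_congr rfl fun j _ => ?_
        split_ifs <;> simp [mul_left_comm]
      rw [e]
      exact DFunLike.congr_fun h ⟨B', hB'⟩
  have hsplit : ∀ T : Module.End ℂ (Fin k → ℂ), LinearMap.trace ℂ _ (T * P) =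
      ∑ K ∈ S, LinearMap.trace ℂ _ (T * proj φ (lamT ψ K)) := by
    intro T
    rw [trace_eq_sum φ (T * P), ← (lamT_bijective (m := m) hψ).sum_comp, hS, Finset.sum_filter]
    refine Finset.sum_congr rfl fun K _ => ?_
    have hPK : P * proj φ (lamT ψ K) = if K ∈ S then proj φ (lamT ψ K) else 0 := by
      refine LinearMap.ext fun v => ?_
      have hm : proj φ (lamT ψ K) v ∈ eig φ' ⊤ ((lamT ψ K).compAddMonoidHom X.subtype) :=
        mem_eig.2 ⟨Submodule.mem_top, fun B => (mem_eig.1 (proj_top_mem φ _ v)).2 B.1⟩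
      rw [Module.End.mul_apply, hP, proj_of_mem hm]
      by_cases hK : K ∈ S
      · rw [if_pos ((hlam K).1 hK).symm, if_pos hK]
      · rw [if_neg fun h => hK ((hlam K).2 h.symm), if_neg hK]; rfl
    rw [mul_assoc, hPK]
    by_cases hK : K ∈ S
    · rw [if_pos hK, if_pos (by simpa [S] using hK)]
    · rw [if_neg hK, if_neg (by simpa [S] using hK), mul_zero, map_zero]
  have hSij : ∀ K ∈ S, ∀ i j, i ≠ 0 → j ≠ 0 → K.1 i j = 0 := by
    intro K hK i j hi hj
    simp only [S, Finset.mem_filter, Finset.mem_univ, true_and] at hK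
    have hmem : ∀ i j : Fin (m + 3), i ≠ 0 → j ≠ 0 → wedge (e i : Fin (m + 3) → F) (e j) ∈ X := fun i j hi hj l => by
      simp [wedge_apply, Ne.symm hi, Ne.symm hj]
    rcases lt_trichotomy i j with h' | h' | h'
    · have := hK _ (hmem i j hi hj)
      rw [pair_comm, pair_eq (M := vecMulVec (e i) (e j)) (K := wedge (e i : Fin (m + 3) → F) (e j))
        (by simp [wedge, transpose_vecMulVec]), ← sum_eq_trace,
        Finset.sum_eq_single i (fun x _ hx => Finset.sum_eq_zero fun y _ => by simp [vecMulVec_apply, e_ne hx]) (by simp),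
        Finset.sum_eq_single j (fun y _ hy => by simp [vecMulVec_apply, e_ne hy]) (by simp)] at this
      simpa [vecMulVec_apply] using this
    · subst h'; exact alt_diag K i
    · have := hK _ (hmem j i hj hi)
      rw [pair_comm, pair_eq (M := vecMulVec (e j) (e i)) (K := wedge (e j : Fin (m + 3) → F) (e i))
        (by simp [wedge, transpose_vecMulVec]), ← sum_eq_trace,
        Finset.sum_eq_single j (fun x _ hx => Finset.sum_eq_zero fun y _ => by simp [vecMulVec_apply, e_ne hx]) (by simp),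
        Finset.sum_eq_single i (fun y _ hy => by simp [vecMulVec_apply, e_ne hy]) (by simp)] at this
      have h' : K.1 j i = 0 := by simpa [vecMulVec_apply] using this
      rw [alt_swap K j i, h', neg_zero]
  have hS0 : (0 : AltM (m + 3) F) ∈ S := by
    simp only [S, Finset.mem_filter, Finset.mem_univ, true_and]
    exact fun B _ => pair_zero_left B
  have hdiag : ∀ (δ : Fin (m + 3) → F) (K : AltM (m + 3) F) i j, (act (diagonal δ) K).1 i j = δ i * K.1 i j * δ j :=
    fun δ K i j => by simp [act_val, diagonal_transpose, mul_diagonal, diagonal_mul]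
  -- the conjugate
  have hTg : LinearMap.trace ℂ _ (ρ g * P) = LinearMap.trace ℂ _ (ρ g * proj φ (lamT ψ 0)) := by
    rw [hsplit]
    refine Finset.sum_eq_single 0 (fun K hK hK0 => ?_) (fun h => absurd hS0 h)
    refine trace_moved φ (χ' := lamT ψ (act (diagonal d') K)) (fun v hv => move_eigK E ψ ρ hgx hv) fun h => hK0 ?_
    have hKeq := (lamT_bijective (m := m) hψ).1 h
    have hrow : ∀ j, K.1 0 j = 0 := fun j => by
      rcases eq_or_ne j 0 with rfl | hj
      · exact alt_diag K 0
      by_contra hne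
      have h1 := congrArg (fun K : AltM (m + 3) F => K.1 0 j) hKeq
      simp only [hdiag] at h1
      have h2 : d' 0 * d' j = 1 := mul_right_cancel₀ hne (by linear_combination -h1)
      rw [hd'eq, Function.update_self, Function.update_of_ne hj] at h2
      simp only [d, if_neg hj] at h2
      split_ifs at h2
      · exact htt (by rw [← mul_inv, inv_eq_one] at h2; exact h2)
      · rw [mul_one, inv_eq_one] at h2
        exact htt (by rw [h2, one_mul])
    refine Subtype.ext (Matrix.ext fun i j => ?_)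
    rcases eq_or_ne i 0 with rfl | hi
    · exact hrow j
    rcases eq_or_ne j 0 with rfl | hj
    · rw [alt_swap K 0 i, hrow, neg_zero]; rfl
    exact hSij K hK i j hi hj
  -- the torus element
  have hTh : LinearMap.trace ℂ _ (ρ (E.L (h01 m τ hτ0)) * P) =
      LinearMap.trace ℂ _ (ρ (E.L (h01 m τ hτ0)) * proj φ (lamT ψ 0)) - ((Fintype.card F - 1 : ℕ) : ℂ) := by
    rw [hsplit]
    set C := (Finset.univ.erase (0 : F)).image (Kc m) with hC
    have hsub : insert 0 C ⊆ S := by
      intro K hK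
      rcases Finset.mem_insert.1 hK with rfl | hK
      · exact hS0
      obtain ⟨c, -, rfl⟩ := Finset.mem_image.1 hK
      simp only [S, Finset.mem_filter, Finset.mem_univ, true_and]
      exact fun B hB => by rw [pair_Kc, hB, mul_zero]
    rw [← Finset.sum_subset hsub]
    · rw [Finset.sum_insert (fun h => by
        obtain ⟨c, hc, h0⟩ := Finset.mem_image.1 h
        exact Kc_ne (Finset.ne_of_mem_erase hc) h0), Finset.sum_image fun c _ c' _ h => by
          simpa [Kc, K0t, wedge_apply] using congrArg (fun K : AltM (m + 3) F => K.1 0 1) h,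
        Finset.sum_congr rfl (g := fun _ => (-1 : ℂ)) fun c hc => ?_, Finset.sum_const, Finset.card_erase_of_mem
          (Finset.mem_univ _), Finset.card_univ]
      · simp; ring
      have hc0 := Finset.ne_of_mem_erase hc
      have hψc : ψ.mulShift c ≠ 1 := fun h => hψ (DFunLike.ext _ _ fun x => by
        have := DFunLike.congr_fun h (x / c)
        rwa [AddChar.mulShift_apply, mul_div_cancel₀ _ hc0] at this)
      have heig : eigK E (ψ.mulShift c) ρ (K0t m F) = eigK E ψ ρ (Kc m c) := by rw [eigK, eigK, lamT_Kc]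
      have hdim : finrank ℂ (eigK E (ψ.mulShift c) ρ (K0t m F)) = Fintype.card F := by
        rw [heig]; exact hblock _ (Kc_mem hc0)
      obtain ⟨D⟩ := exists_block E ρ hψc h2 hdim
      rw [← lamT_Kc]
      exact D.torus_trace hdim (by omega) h2 t hgen
    · intro K hK hKC
      refine trace_moved φ (χ' := lamT ψ (act (h01 m τ hτ0).1 K))
        (fun v hv => move_eigK E ψ ρ (E.hL (h01 m τ hτ0)) hv) fun h => hKC ?_
      have hKeq := (lamT_bijective (m := m) hψ).1 h
      have hrow : ∀ j, j ≠ 1 → K.1 0 j = 0 := fun j hj1 => by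
        rcases eq_or_ne j 0 with rfl | hj
        · exact alt_diag K 0
        by_contra hne
        have h1 := congrArg (fun K : AltM (m + 3) F => K.1 0 j) hKeq
        rw [h01_val] at h1
        simp only [hdiag] at h1
        simp [hj, hj1] at h1
        exact htt (by
          have h3 : τ = 1 := mul_right_cancel₀ hne (by linear_combination -h1)
          rw [h3, one_mul])
      have hKK : K = Kc m (K.1 0 1) := by
        refine Subtype.ext (Matrix.ext fun i j => ?_)
        simp only [Kc, K0t, Matrix.smul_apply, wedge_apply, smul_eq_mul]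
        rcases eq_or_ne i 0 with rfl | hi
        · rcases eq_or_ne j 1 with rfl | hj1
          · simp
          · rw [hrow j hj1, e_ne hj1]; simp
        rcases eq_or_ne j 0 with rfl | hj
        · rcases eq_or_ne i 1 with rfl | hi1
          · rw [alt_swap K 0 1]; simp
          · rw [alt_swap K 0 i, hrow i hi1, e_ne hi1, e_ne hi]; simp
        rw [hSij K hK i j hi hj, e_ne hi, e_ne hj]; simp
      refine Finset.mem_insert.2 ?_
      rcases eq_or_ne (K.1 0 1) 0 with h0 | h0
      · left
        rw [hKK, h0]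
        exact Subtype.ext (zero_smul F _)
      · exact Or.inr (Finset.mem_image.2 ⟨_, Finset.mem_erase.2 ⟨h0, Finset.mem_univ _⟩, hKK.symm⟩)
  -- the traces on the fixed space
  have hgV : ∀ v ∈ V, ρ g v ∈ V := fun v hv => by
    have h := move_eigK E ψ ρ (A := diagonal d') hgx hv
    rwa [map_zero] at h
  let M' : GL (Fin (m + 3)) F := Matrix.GeneralLinearGroup.mkOfDetNeZero (diagonal d') (by
    rw [det_diagonal]; exact Finset.prod_ne_zero_iff.2 fun i _ => hd'0 i)
  let M : GL (Fin (m + 3)) F := Matrix.SpecialLinearGroup.toGL (h01 m τ hτ0)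
  obtain ⟨ν, hν, hνtr⟩ := H.trace_eq (π (h01 m τ hτ0)) M fun A A' h => by
    rw [← map_mul, ← map_mul]
    exact congrArg π (Subtype.ext h.symm)
  obtain ⟨μ, hμ, hμtr⟩ := H.trace_eq ((ρ g).restrict hgV) M' fun A A' h => LinearMap.ext fun w => Subtype.ext (by
    show ρ (E.L A') (ρ g w.1) = ρ g (ρ (E.L A) w.1)
    rw [← Module.End.mul_apply, ← map_mul, ← hgL A A' h, map_mul, Module.End.mul_apply])
  have hν1 : ν = 1 := by
    have h1 := hν (e 0) (by simp)
    rw [H.za_act _ _ (by simp)] at h1
    refine smul_left_injective ℂ (za_ne_zero H (smul_ne (h01 m τ hτ0) (by simp : (e 0 : Fin (m + 3) → F) ≠ 0))) ?_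
    show ν • _ = (1 : ℂ) • _
    rw [one_smul]
    exact h1.symm
  have hμ1 : ‖μ‖ = 1 := by
    set N := orderOf g * (Fintype.card F - 1)
    have hN0 : N ≠ 0 := Nat.mul_ne_zero (orderOf_pos g).ne' (by omega)
    refine Complex.norm_eq_one_of_pow_eq_one (n := N) ?_ hN0
    set T := (ρ g).restrict hgV
    have hpow : ∀ j : ℕ, ∀ a : Fin (m + 3) → F, a ≠ 0 →
        (T ^ j) (H.za a) = μ ^ j • H.za ((diagonal d') ^ j *ᵥ a) := by
      intro j
      induction j with
      | zero => intro a _; simp
      | succ j ih =>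
        intro a ha
        rw [pow_succ, Module.End.mul_apply, hμ a ha, map_smul, ih _ (fun h0 => ha
          (Matrix.mulVec_injective_iff_isUnit.2 M'.isUnit (h0.trans (mulVec_zero _).symm))), smul_smul, ← pow_succ',
          mulVec_mulVec]
        show μ ^ (j + 1) • H.za ((diagonal d' ^ j * diagonal d') *ᵥ a) = _
        rw [← pow_succ]
    have hTN : T ^ N = 1 := by
      refine LinearMap.ext fun w => Subtype.ext ?_
      have hval : ∀ j : ℕ, ((T ^ j) w).1 = ρ (g ^ j) w.1 := fun j => by
        induction j with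
        | zero => simp
        | succ j ih =>
          rw [pow_succ', pow_succ', Module.End.mul_apply, map_mul, Module.End.mul_apply, ← ih]
          rfl
      rw [hval, pow_mul, pow_orderOf_eq_one, one_pow, map_one]
      rfl
    have hdN : (diagonal d') ^ N = 1 := by
      rw [diagonal_pow, ← diagonal_one]
      congr 1
      funext i
      rw [Pi.pow_apply, show N = (Fintype.card F - 1) * orderOf g from mul_comm _ _, pow_mul,
        FiniteField.pow_card_sub_one_eq_one _ (hd'0 i), one_pow]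
    have he : (e 0 : Fin (m + 3) → F) ≠ 0 := by simp
    have h1 := hpow N (e 0) he
    rw [hTN, hdN, one_mulVec, Module.End.one_apply] at h1
    refine smul_left_injective ℂ (za_ne_zero H he) ?_
    show μ ^ N • _ = (1 : ℂ) • _
    rw [one_smul]
    exact h1.symm
  obtain ⟨hcount, hF2⟩ := fixed_count hτ0 htt M M' (h01_val τ hτ0) (by rw [← hd'eq]; rfl)
  have key := htrace
  rw [hTg, hTh, trace_mul_proj φ _ (ρ g) hgV, trace_mul_proj φ _ (ρ (E.L (h01 m τ hτ0))) (hinv _)] at key
  change LinearMap.trace ℂ V ((ρ g).restrict hgV) = LinearMap.trace ℂ V (π (h01 m τ hτ0)) - _ at key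
  rw [hμtr, hνtr, hν1, one_mul, hcount] at key
  obtain ⟨n, hn⟩ : ∃ n, n = Nat.card {p : Pt m F // ptMap M p = p} := ⟨_, rfl⟩
  rw [← hn] at key hF2
  have hcast : ∀ z : ℤ, ‖(z : ℂ)‖ = |(z : ℝ)| := fun z => by simp
  have key' : μ * (((n : ℤ) + (Fintype.card F - 1 : ℕ) - 1 : ℤ) : ℂ) =
      (((n : ℤ) - 1 - (Fintype.card F - 1 : ℕ) : ℤ) : ℂ) := by
    push_cast at key ⊢
    exact key
  have hn' := congrArg norm key'
  rw [norm_mul, hμ1, one_mul, hcast, hcast] at hn'
  have habs : |(n : ℤ) + (Fintype.card F - 1 : ℕ) - 1| = |(n : ℤ) - 1 - (Fintype.card F - 1 : ℕ)| := by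
    exact_mod_cast hn'
  rcases abs_eq_abs.1 habs with h | h <;> omega

end Core

variable (h2 : (2 : F) ≠ 0)

include h2 in
/-- A nontrivial irreducible representation of the commutator subgroup has central kernel. -/
theorem kernel_central {k : ℕ} (ρ : Representation ℂ (OmB (m + 3) F) (Fin k → ℂ)) (hirr : ρ.IsIrreducible)
    (hk : 2 ≤ k) (g : OmB (m + 3) F) (hg : ρ g = 1) : g ∈ Subgroup.center (OmB (m + 3) F) := by
  classical
  have hQ := nondeg_odd (r := m + 3) h2
  have hfin : finrank F (Sp (m + 3) F) = 2 * m + 7 := by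
    simp only [Module.finrank_prod, Module.finrank_fin_fun, Module.finrank_self]
    ring
  have hn5 : 5 ≤ finrank F (Sp (m + 3) F) := by rw [hfin]; omega
  have heo := eo_eq_commutator hQ (by rw [hfin]; omega) (Or.inr (by rw [hfin]; omega))
  have hsimple : IsSimpleGroup (OmB (m + 3) F ⧸ Subgroup.center (OmB (m + 3) F)) := by
    have s := isSimpleGroup_eo_quot hQ hn5
    rw [heo] at s
    exact s
  have hperf : commutator (OmB (m + 3) F) = ⊤ := perfect_of_le _ (by
    have h := eo_le_commutator_eo hQ hn5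
    rwa [heo] at h)
  rcases ((Subgroup.Normal.map (inferInstance : (MonoidHom.ker ρ).Normal) _
    (QuotientGroup.mk'_surjective (Subgroup.center (OmB (m + 3) F))))).eq_bot_or_eq_top with h | h
  · have := Subgroup.mem_map_of_mem (QuotientGroup.mk' (Subgroup.center (OmB (m + 3) F))) (MonoidHom.mem_ker.2 hg)
    rw [h, Subgroup.mem_bot] at this
    exact (QuotientGroup.eq_one_iff g).1 this
  exfalso
  have hcen : ∀ x y : OmB (m + 3) F, ρ x * ρ y = ρ y * ρ x := by
    intro x y
    obtain ⟨x', hx', hxx⟩ : QuotientGroup.mk' (Subgroup.center (OmB (m + 3) F)) x ∈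
        (MonoidHom.ker ρ).map (QuotientGroup.mk' (Subgroup.center (OmB (m + 3) F))) := h ▸ Subgroup.mem_top _
    have hz : x'⁻¹ * x ∈ Subgroup.center (OmB (m + 3) F) := QuotientGroup.eq.1 hxx
    have e : ρ x = ρ (x'⁻¹ * x) := by
      conv_lhs => rw [show x = x' * (x'⁻¹ * x) by group]
      rw [map_mul, MonoidHom.mem_ker.1 hx', one_mul]
    rw [e, ← map_mul, ← map_mul, Subgroup.mem_center_iff.1 hz y]
  have htriv : ∀ g, ρ g = 1 := fun g => trivial_of_commuting ρ hperf hcen g
  have := SLDeg.no_trivial ρ hirr hk (v := Pi.single ⟨0, by omega⟩ 1) fun g => by rw [htriv g]; rfl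
  simpa using congrFun this ⟨0, by omega⟩

include h2 in
/-- The degree bound. -/
theorem min_degree (hq : 4 < Fintype.card F) (k : ℕ) (ρ : Representation ℂ (OmB (m + 3) F) (Fin k → ℂ))
    (hirr : ρ.IsIrreducible) (hk : 2 ≤ k) :
    (Fintype.card F ^ (2 * (m + 3)) - 1) / (Fintype.card F ^ 2 - 1) ≤ k := by
  classical
  haveI := finite_OB (F := F) (m + 3)
  set q := Fintype.card F with hqdef
  refine Nat.div_le_of_le_mul ?_
  rw [mul_comm _ k]
  by_contra hlt
  push Not at hlt
  obtain ⟨E, hx⟩ := exists_frame (m := m) h2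
  obtain ⟨ψ, hψ⟩ := SLDeg.exists_addChar_ne_one (F := F)
  have hker := kernel_central h2 ρ hirr hk
  have hcen : E.x (K0t m F) ∉ Subgroup.center (OmB (m + 3) F) := fun hz => by
    have h12 : (1 : Fin (m + 3)) ≠ 2 := by simp [Fin.ext_iff, Nat.mod_eq_of_lt (show 2 < m + 3 by omega)]
    have h01 : (0 : Fin (m + 3)) ≠ 1 := by simp
    have h02 : (0 : Fin (m + 3)) ≠ 2 := by simp [Fin.ext_iff, Nat.mod_eq_of_lt (show 2 < m + 3 by omega)]
    let A : SLn (m + 3) F := tv (e 1) (e 2) (by simp [e_ne h12])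
    have h1 := E.hL A (K0t m F)
    rw [← Subgroup.mem_center_iff.1 hz (E.L A), mul_left_cancel_iff] at h1
    have h2' : act A.1ᵀ (K0t m F) = K0t m F := xO'_injective h2 (by rw [← hx, ← hx, h1])
    have ev : ∀ v : Fin (m + 3) → F, A.1ᵀ *ᵥ v = v + v 1 • e 2 := fun v => by
      funext i
      simp [A, tv, Matrix.transpose_add, Matrix.transpose_vecMulVec, Matrix.add_mulVec, Matrix.vecMulVec_mulVec,
        mul_comm]
    have h3 := congrArg (fun K : AltM (m + 3) F => K.1 0 2) h2'
    simp only [K0t, act_wedge, ev, wedge_apply, Pi.add_apply, Pi.smul_apply, smul_eq_mul, e_self, e_ne h01,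
      e_ne h01.symm, e_ne h02, e_ne h02.symm, e_ne h12, e_ne h12.symm] at h3
    simp at h3
  have hnt : ∃ B, ρ (E.x B) ≠ 1 := ⟨K0t m F, fun h => hcen (hker _ h)⟩
  haveI : Fintype (O2t m F) := Fintype.ofFinite _
  obtain ⟨h1, hkeq⟩ := small E ρ hψ h2 hnt hlt (by omega)
  have hblock : ∀ K ∈ O2t m F, finrank ℂ (eigK E ψ ρ K) = q := fun K hK => by
    refine (h1 K fun h0 => ?_).1 hK
    obtain ⟨A, hA⟩ := hK
    exact K0t_ne (act_injective (show IsUnit A.1.det by rw [A.2]; exact isUnit_one)
      ((hA.trans h0).trans (map_zero (act A.1)).symm))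
  obtain ⟨D⟩ := exists_block E ρ hψ h2 (hblock _ K0t_mem)
  refine no_boundary E ρ hψ hq h2 hblock (moves D hψ (by omega)) ?_
  obtain ⟨f, hf⟩ : ∃ f, f = finrank ℂ (eigK E ψ ρ 0) := ⟨_, rfl⟩
  rw [← hf] at hkeq ⊢
  have hN := card_O2t_mul (m := m) (F := F)
  rw [← hqdef] at hN hkeq ⊢
  have hdvd : q - 1 ∣ q ^ (m + 3) - q := by
    rw [show q ^ (m + 3) - q = q * (q ^ (m + 2) - 1) by rw [Nat.mul_sub, mul_one, pow_succ']]
    exact (by simpa using Nat.sub_dvd_pow_sub_pow q 1 (m + 2) : q - 1 ∣ q ^ (m + 2) - 1).mul_left q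
  obtain ⟨τ, hτ⟩ := hdvd
  rw [hτ, Nat.mul_div_cancel_left _ (show 0 < q - 1 by omega)]
  by_contra hc
  push Not at hc
  refine absurd hlt (not_lt.2 ?_)
  show num q m ≤ _
  rw [num_eq q m _ τ (by omega) hN hτ, hkeq]
  exact Nat.mul_le_mul_right _ (by omega)

end Cfsg.Agent.OrthOdd
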