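import Cfsg.Agent.OrthOdd.Heis
import Cfsg.Agent.OrthMinus.Small

/-!
The spectrum of a small representation on the centre of the radical; the linear group moves the fixed space.
-/

set_option autoImplicit false
set_option linter.unusedSectionVars false

namespace Cfsg.Agent.OrthOdd

open Matrix Module SLDeg OrthDeg SUDeg
open OrthMinus (K0t O2t pair_K0t K0t_mem finrank_le_of_maps rep_injective sum_finrank_eig eq_zero_of_psi K0t_ne
  card_O2t_mul exists_normal_three big_orbit_sl exists_scalar_char)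

variable {F : Type*} [Field F] [Fintype F] {m : ℕ} {G : Type*} [Group G]
variable (E : OFrame m F G) {ψ : AddChar F ℂ} {k : ℕ} (ρ : Representation ℂ G (Fin k → ℂ))

theorem lamT_bijective (hψ : ψ ≠ 1) : Function.Bijective (lamT (m := m) ψ) :=
  OrthMinus.lamT_bijective (m := m) hψ

theorem sum_eigK (hψ : ψ ≠ 1) : ∑ K, finrank ℂ (eigK E ψ ρ K) = k := by
  classical
  have h := sum_finrank_eig (phx E ρ)
  rw [Module.finrank_fin_fun] at h
  exact (Fintype.sum_bijective _ (lamT_bijective (m := m) hψ) _ _ fun K => rfl).trans h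

theorem finrank_four (hψ : ψ ≠ 1) (h2 : (2 : F) ≠ 0)
    (K : AltM (m + 3) F) (i₂ i₃ : Fin (m + 3)) (k01 : K.1 0 1 = 1) (k03 : K.1 0 i₃ = 0) (k12 : K.1 1 i₂ = 0)
    (k13 : K.1 1 i₃ = 0) (k23 : K.1 i₂ i₃ ≠ 0) (h0 : eigK E ψ ρ K ≠ ⊥) :
    Fintype.card F ^ 2 ≤ finrank ℂ (eigK E ψ ρ K) := by
  classical
  let ι : F × F →+ Fin (m + 3) → F :=
    (AddMonoidHom.comp (sglHom 1) (AddMonoidHom.fst _ _)) + (AddMonoidHom.comp (sglHom i₃) (AddMonoidHom.snd _ _))
  let τ : F × F → Fin (m + 3) → F := fun d => Pi.single 0 d.1 + Pi.single i₂ d.2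
  let η : F × F → AddChar (F × F) ℂ := fun d =>
    { toFun := fun c => etaS ψ d.1 c.1 * etaS ψ d.2 (K.1 i₂ i₃ * c.2)
      map_zero_eq_one' := by
        rw [Prod.fst_zero, Prod.snd_zero, mul_zero, AddChar.map_zero_eq_one, AddChar.map_zero_eq_one, mul_one]
      map_add_eq_mul' := fun c c' => by
        rw [Prod.fst_add, Prod.snd_add, mul_add, AddChar.map_add_eq_mul, AddChar.map_add_eq_mul]
        ring }
  have hιc : ∀ c, ι c = Pi.single 1 c.1 + Pi.single i₃ c.2 := fun c => rfl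
  have hι : ∀ c c', pair K (Dm (ι c) (ι c')) = 0 := fun c c' => by
    rw [hιc, hιc]
    simp only [pair_Dm_add_left, pair_Dm_add_right, pair_Dm_sgl]
    rw [alt_diag, alt_diag, alt_swap K 1 i₃, k13]
    ring
  have hη : Function.Injective η := fun d d' h => by
    have h' : ∀ c : F × F, etaS ψ d.1 c.1 * etaS ψ d.2 (K.1 i₂ i₃ * c.2) =
        etaS ψ d'.1 c.1 * etaS ψ d'.2 (K.1 i₂ i₃ * c.2) := fun c => DFunLike.congr_fun h c
    refine Prod.ext ((etaS_bijective hψ h2).1 (DFunLike.ext _ _ fun c => ?_))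
      ((etaS_bijective hψ h2).1 (DFunLike.ext _ _ fun c => ?_))
    · have h1 := h' (c, 0)
      rwa [mul_zero, AddChar.map_zero_eq_one, AddChar.map_zero_eq_one, mul_one, mul_one] at h1
    · have h1 := h' (0, c / K.1 i₂ i₃)
      rwa [mul_div_cancel₀ _ k23, AddChar.map_zero_eq_one, AddChar.map_zero_eq_one, one_mul, one_mul] at h1
  have h := card_shifts_le E ψ ρ hι h0 τ η hη fun d c => by
    show ψ _ = ψ (2 * (d.1 * c.1)) * ψ (2 * (d.2 * (K.1 i₂ i₃ * c.2)))
    rw [← AddChar.map_add_eq_mul]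
    congr 1
    rw [hιc]
    simp only [τ]
    simp only [pair_Dm_add_left, pair_Dm_add_right, pair_Dm_sgl]
    rw [alt_swap K 0 1, k01, alt_swap K i₂ i₃, k03, alt_swap K 0 i₃, k03, alt_swap K 1 i₂, k12]
    ring
  rw [Fintype.card_prod] at h
  exact le_trans (le_of_eq (by ring)) h

/-- The bound times q² − 1. -/
def num (q m : ℕ) : ℕ := q ^ (2 * (m + 3)) - 1

theorem ineq_big (q m : ℕ) (hq : 3 ≤ q) :
    num q (m + 1) ≤ (q ^ (m + 3) - 1) * q ^ (m + 2) * q ^ 2 * (q ^ 2 - 1) := by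
  obtain ⟨X, hX⟩ : ∃ X, X = q ^ (m + 2) := ⟨_, rfl⟩
  have h4 : 9 ≤ X := hX ▸ (Nat.pow_le_pow_left hq 2).trans (Nat.pow_le_pow_right (by omega) (by omega))
  rw [num, show q ^ (2 * (m + 1 + 3)) = (q * q * X) * (q * q * X) by rw [hX]; ring,
    show q ^ (m + 3) = q * X by rw [hX]; ring, ← hX]
  have h1 : 1 ≤ q * X := Nat.one_le_iff_ne_zero.2 (Nat.mul_ne_zero (by omega) (by omega))
  have h2 : 1 ≤ q * q * X * (q * q * X) := Nat.one_le_iff_ne_zero.2 (by positivity)
  have h3 : 1 ≤ q ^ 2 := Nat.one_le_pow _ _ (by omega)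
  zify [h1, h2, h3]
  have e : ((q : ℤ) * X - 1) * X * q ^ 2 * (q ^ 2 - 1) - ((q : ℤ) * q * X * (q * q * X) - 1) =
      X * X * (q ^ 2 * (q * (q ^ 2 - 1) - q ^ 2)) - X * (q ^ 2 * (q ^ 2 - 1)) + 1 := by ring
  have hq3 : (3 : ℤ) ≤ q := by exact_mod_cast hq
  have hX3 : (9 : ℤ) ≤ X := by exact_mod_cast h4
  have h5 : (q : ℤ) ^ 2 - 1 ≤ X * (q * (q ^ 2 - 1) - q ^ 2) := by
    have : (q : ℤ) ^ 2 - 1 ≤ 9 * (q * (q ^ 2 - 1) - q ^ 2) := by nlinarith
    refine this.trans (mul_le_mul_of_nonneg_right hX3 ?_)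
    nlinarith
  have h6 := mul_le_mul_of_nonneg_left h5 (show (0 : ℤ) ≤ (X : ℤ) * q ^ 2 by positivity)
  linarith

theorem num_le (q m N : ℕ) (hq : 3 ≤ q) (hN : (q ^ 2 - 1) * N = (q ^ (m + 3) - 1) * (q ^ (m + 2) - 1)) :
    num q m ≤ 2 * q * N * (q ^ 2 - 1) := by
  rw [mul_assoc, mul_comm N, hN, num]
  obtain ⟨X, hX⟩ : ∃ X, X = q ^ (m + 2) := ⟨_, rfl⟩
  have h4 : 9 ≤ X := hX ▸ (Nat.pow_le_pow_left hq 2).trans (Nat.pow_le_pow_right (by omega) (by omega))
  rw [show q ^ (2 * (m + 3)) = (q * X) * (q * X) by rw [hX]; ring, show q ^ (m + 3) = q * X by rw [hX]; ring, ← hX]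
  have h1 : 1 ≤ q * X := Nat.one_le_iff_ne_zero.2 (Nat.mul_ne_zero (by omega) (by omega))
  have h2 : 1 ≤ q * X * (q * X) := Nat.one_le_iff_ne_zero.2 (by positivity)
  zify [h1, h2, (by omega : 1 ≤ X)]
  have e : 2 * (q : ℤ) * ((q * X - 1) * (X - 1)) - (q * X * (q * X) - 1) =
      (q * X - 1) * (2 * q * (X - 1) - (q * X + 1)) := by ring
  have h7 : (0 : ℤ) ≤ (q * X - 1) * (2 * q * (X - 1) - (q * X + 1)) := by
    have hq3 : (3 : ℤ) ≤ q := by exact_mod_cast hq
    have hX3 : (9 : ℤ) ≤ X := by exact_mod_cast h4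
    exact mul_nonneg (by nlinarith) (by nlinarith)
  linarith

theorem num_eq (q m N τ : ℕ) (hq : 3 ≤ q) (hN : (q ^ 2 - 1) * N = (q ^ (m + 3) - 1) * (q ^ (m + 2) - 1))
    (hτ : q ^ (m + 3) - q = (q - 1) * τ) : num q m = (q * N + τ + 1) * (q ^ 2 - 1) := by
  have p : ∀ j, 1 ≤ q ^ j := fun j => Nat.one_le_pow _ _ (by omega)
  have p' : q ≤ q ^ (m + 3) := Nat.le_self_pow (by omega) q
  rw [num]
  zify [p 2, p (2 * (m + 3)), p (m + 3), p (m + 2), p', (by omega : 1 ≤ q)] at hN hτ ⊢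
  linear_combination -(q : ℤ) * hN + ((q : ℤ) + 1) * hτ

/-- The spectrum of a small representation nontrivial on the centre of the radical. -/
theorem small (hψ : ψ ≠ 1) (h2 : (2 : F) ≠ 0)
    [Fintype (O2t m F)] (hnt : ∃ B, ρ (E.x B) ≠ 1) (hk : k * (Fintype.card F ^ 2 - 1) < num (Fintype.card F) m)
    (hq : 3 ≤ Fintype.card F) :
    (∀ K, K ≠ 0 → (K ∈ O2t m F → finrank ℂ (eigK E ψ ρ K) = Fintype.card F) ∧
      (K ∉ O2t m F → finrank ℂ (eigK E ψ ρ K) = 0)) ∧
      k = finrank ℂ (eigK E ψ ρ 0) + Fintype.card F * Fintype.card (O2t m F) := by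
  classical
  set q := Fintype.card F with hqdef
  have hsum := sum_eigK E ρ hψ
  have hN := card_O2t_mul (m := m) (F := F)
  have honly : ∀ K, K ≠ 0 → finrank ℂ (eigK E ψ ρ K) ≠ 0 → K ∈ O2t m F := by
    intro K hK hd
    have fin : ∀ A : SLn (m + 3) F, act A.1 K = K0t m F → K ∈ O2t m F := fun A hA => ⟨A⁻¹, by
      rw [← hA, ← act_mul, ← Matrix.SpecialLinearGroup.coe_mul, inv_mul_cancel, Matrix.SpecialLinearGroup.coe_one,
        act_one]⟩
    cases m with
    | zero =>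
      obtain ⟨A, hA⟩ := exists_normal_three K hK
      exact fin A hA
    | succ m' =>
      obtain ⟨A, hA | hA⟩ := exists_normal (m := m') K hK
      · exact fin A hA
      exfalso
      set K' : AltM (m' + 1 + 3) F := act A.1 K
      have hd' : eigK E ψ ρ K' ≠ ⊥ := fun h => hd (by
        rw [← finrank_act E ψ ρ A K]
        show finrank ℂ (eigK E ψ ρ K') = 0
        rw [h, finrank_bot])
      set S := {K'' : AltM (m' + 1 + 3) F | ∃ B : SLn (m' + 1 + 3) F, act B.1 K' = K''}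
      have h4 := finrank_four E ρ hψ h2 K' 2 3 hA.1 (hA.2.1 3 (two_three (m := m')).2.2.2.1)
        (hA.2.2.1 2 (two_three (m := m')).1) (hA.2.2.1 3 (two_three (m := m')).2.2.1) hA.2.2.2 hd'
      have h1 : S.ncard * q ^ 2 ≤ k := by
        rw [Set.ncard_eq_toFinset_card', ← hsum, Finset.card_eq_sum_ones, Finset.sum_mul]
        refine le_trans (Finset.sum_le_sum fun K'' hK'' => ?_) (Finset.sum_le_univ_sum_of_nonneg fun _ => Nat.zero_le _)
        obtain ⟨B, rfl⟩ := Set.mem_toFinset.1 hK''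
        rw [finrank_act, one_mul]
        exact h4
      have h2' : (q ^ (m' + 3) - 1) * q ^ (m' + 2) * q ^ 2 ≤ k :=
        (Nat.mul_le_mul_right _ (big_orbit_sl (m := m') K' hA)).trans h1
      exact absurd ((ineq_big q m' hq).trans (Nat.mul_le_mul_right (q ^ 2 - 1) h2')) (not_le.2 hk)
  obtain ⟨c, hc⟩ : ∃ c, ∀ K ∈ O2t m F, finrank ℂ (eigK E ψ ρ K) = q * c :=
    ⟨finrank ℂ (eig (phA E ψ ρ (sglHom 1) (K0t m F) hK0_comm) ⊤ 1), fun K ⟨A, hA⟩ => by
      rw [← hA, finrank_act, finrank_K0 E ρ hψ h2 1]⟩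
  have hO0 : ∀ K ∈ O2t m F, K ≠ 0 := by
    rintro K ⟨A, rfl⟩ h0
    exact K0t_ne (act_injective (show IsUnit A.1.det by rw [A.2]; exact isUnit_one) (h0.trans (map_zero (act A.1)).symm))
  have hsplit : k = finrank ℂ (eigK E ψ ρ 0) + Fintype.card (O2t m F) * (q * c) := by
    refine hsum.symm.trans ?_
    rw [← Finset.sum_erase_add _ _ (Finset.mem_univ (0 : AltM (m + 3) F)), add_comm]
    congr 1
    rw [← Finset.sum_subset (s₁ := (O2t m F).toFinset)]
    · rw [Finset.sum_congr rfl fun K hK => hc K (Set.mem_toFinset.1 hK), Finset.sum_const, smul_eq_mul,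
        Set.toFinset_card]
    · exact fun K hK => Finset.mem_erase.2 ⟨hO0 K (Set.mem_toFinset.1 hK), Finset.mem_univ K⟩
    · intro K hK hK'
      by_contra h
      exact hK' (Set.mem_toFinset.2 (honly K (Finset.ne_of_mem_erase hK) h))
  have hc1 : c = 1 := by
    rcases Nat.lt_or_ge c 1 with h | h
    · exfalso
      obtain ⟨B, hB⟩ := hnt
      refine hB ?_
      have h0 : finrank ℂ (eigK E ψ ρ 0) = k := by
        have h' := hsplit
        rw [show c = 0 by omega, mul_zero, mul_zero, add_zero] at h'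
        exact h'.symm
      have htop : eigK E ψ ρ 0 = ⊤ := Submodule.eq_top_of_finrank_eq (by rw [h0, Module.finrank_fin_fun])
      refine LinearMap.ext fun v => ?_
      have := (mem_eigK E ψ ρ).1 (htop ▸ Submodule.mem_top : v ∈ eigK E ψ ρ 0) B
      rwa [pair_zero_left, AddChar.map_zero_eq_one, one_smul] at this
    · by_contra h2
      have h3 : Fintype.card (O2t m F) * (q * 2) ≤ k := by
        refine le_of_le_of_eq ?_ hsplit.symm
        exact le_add_of_nonneg_of_le (Nat.zero_le _) (Nat.mul_le_mul_left _ (Nat.mul_le_mul_left _ (by omega)))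
      have h5 := num_le q m _ hq hN
      have h6 := Nat.mul_le_mul_right (q ^ 2 - 1) h3
      refine absurd (h5.trans (le_trans (le_of_eq ?_) h6)) (not_le.2 hk)
      ring
  subst hc1
  refine ⟨fun K hK => ⟨fun h => by rw [hc K h, mul_one], fun h => ?_⟩, hsplit.trans (by ring)⟩
  by_contra h'
  exact h (honly K hK h')

end Cfsg.Agent.OrthOdd
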